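import Groth.Agent.Misc12.Cliff.Odd.Split
import Mathlib.LinearAlgebra.Matrix.ToLin
import Mathlib.LinearAlgebra.CliffordAlgebra.Even

/-!
The even Clifford algebra of a split form of odd rank is a matrix algebra.
-/

set_option autoImplicit false
set_option linter.unusedSectionVars false

noncomputable section

open QuadraticMap CliffordAlgebra
open scoped TensorProduct

universe u v w

namespace Groth.Misc12.Cliff

variable {R : Type u} [CommRing R]

theorem sq_sum_anti {E : Type*} [Ring E] [Algebra R E] {ι' : Type*} [Fintype ι'] (T : ι' → E) (r : ι' → R)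
    (hsq : ∀ i, T i * T i = r i • 1) (hanti : ∀ i j, i ≠ j → T i * T j + T j * T i = 0) :
    (∑ i, T i) * (∑ i, T i) = (∑ i, r i) • 1 := by
  classical
  suffices H : ∀ t : Finset ι', (∑ i ∈ t, T i) * (∑ i ∈ t, T i) = (∑ i ∈ t, r i) • 1 from H Finset.univ
  intro t
  induction t using Finset.induction with
  | empty => simp
  | insert i t hi ih =>
    have : T i * (∑ j ∈ t, T j) + (∑ j ∈ t, T j) * T i = 0 := by
      rw [Finset.mul_sum, Finset.sum_mul, ← Finset.sum_add_distrib]
      exact Finset.sum_eq_zero fun j hj => hanti i j fun h => hi (h ▸ hj)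
    rw [Finset.sum_insert hi, Finset.sum_insert hi, add_mul, mul_add, mul_add, hsq, ih, add_smul]
    linear_combination (norm := module) this

/-! ### The spin representation -/

namespace Spinor

variable {m : ℕ}

/-- The sign in front of the `i`-th operator. -/
def sgn (i : Fin m) (s : Fin m → Fin 2) : R := ∏ j ∈ Finset.univ.filter (· < i), (if s j = 1 then -1 else 1)

theorem sgn_sq (i : Fin m) (s : Fin m → Fin 2) : sgn (R := R) i s * sgn i s = 1 := by
  rw [sgn, ← Finset.prod_mul_distrib]
  exact Finset.prod_eq_one fun j _ => by split_ifs <;> simp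

theorem sgn_update_of_le (i j : Fin m) (h : i ≤ j) (s : Fin m → Fin 2) (x : Fin 2) :
    sgn (R := R) i (Function.update s j x) = sgn i s := by
  refine Finset.prod_congr rfl fun k hk => ?_
  rw [Function.update_of_ne ((Finset.mem_filter.1 hk).2.trans_le h).ne]

theorem sgn_flip (i j : Fin m) (h : j < i) (s : Fin m → Fin 2) :
    sgn (R := R) i (Function.update s j (1 - s j)) = -sgn i s := by
  classical
  have hj : j ∈ Finset.univ.filter (· < i) := Finset.mem_filter.2 ⟨Finset.mem_univ _, h⟩
  rw [sgn, sgn, ← Finset.mul_prod_erase _ _ hj, ← Finset.mul_prod_erase _ _ hj, Function.update_self, neg_mul_eq_neg_mul]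
  congr 1
  · rcases (by decide : ∀ x : Fin 2, x = 0 ∨ x = 1) (s j) with h | h <;> rw [h] <;> simp
  · exact Finset.prod_congr rfl fun k hk => by rw [Function.update_of_ne (Finset.ne_of_mem_erase hk)]

/-- `op i x` lands in the states with `i`-th entry `x`. -/
def op (i : Fin m) (x : Fin 2) : Module.End R ((Fin m → Fin 2) → R) where
  toFun f s := if s i = x then sgn i s * f (Function.update s i (1 - x)) else 0
  map_add' f g := by funext s; simp only [Pi.add_apply]; split_ifs <;> ring
  map_smul' r f := by funext s; simp only [Pi.smul_apply, smul_eq_mul, RingHom.id_apply]; split_ifs <;> ring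

theorem op_apply (i : Fin m) (x : Fin 2) (f : (Fin m → Fin 2) → R) (s : Fin m → Fin 2) :
    op i x f s = if s i = x then sgn i s * f (Function.update s i (1 - x)) else 0 := rfl

theorem op_op_self (i : Fin m) (x y : Fin 2) (f : (Fin m → Fin 2) → R) (s : Fin m → Fin 2) :
    (op i x * op i y : Module.End R _) f s = if s i = x ∧ y = 1 - x then f s else 0 := by
  rw [Module.End.mul_apply, op_apply, op_apply, Function.update_self]
  by_cases h1 : s i = x
  · by_cases h2 : y = 1 - x
    · subst h2
      rw [if_pos h1, if_pos rfl, if_pos ⟨h1, rfl⟩, sgn_update_of_le i i le_rfl, Function.update_idem, ← mul_assoc, sgn_sq,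
        one_mul, show 1 - (1 - x) = x by rcases (by decide : ∀ x : Fin 2, x = 0 ∨ x = 1) x with rfl | rfl <;> rfl, ← h1,
        Function.update_eq_self]
    · rw [if_pos h1, if_neg (Ne.symm h2), mul_zero, if_neg fun h => h2 h.2]
  · rw [if_neg h1, if_neg fun h => h1 h.1]

theorem op_sq (i : Fin m) (x : Fin 2) : (op i x * op i x : Module.End R ((Fin m → Fin 2) → R)) = 0 := by
  refine LinearMap.ext fun f => funext fun s => ?_
  rw [op_op_self, if_neg fun h => (by decide : ∀ x : Fin 2, x ≠ 1 - x) x h.2]
  rfl

theorem op_add (i : Fin m) : (op i 1 * op i 0 + op i 0 * op i 1 : Module.End R ((Fin m → Fin 2) → R)) = 1 := by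
  refine LinearMap.ext fun f => funext fun s => ?_
  rw [LinearMap.add_apply, Pi.add_apply, op_op_self, op_op_self, Module.End.one_apply]
  rcases (by decide : ∀ x : Fin 2, x = 0 ∨ x = 1) (s i) with h | h <;> simp [h]

theorem op_anti_lt {i j : Fin m} (h : i < j) (x y : Fin 2) :
    (op i x * op j y + op j y * op i x : Module.End R ((Fin m → Fin 2) → R)) = 0 := by
  refine LinearMap.ext fun f => funext fun s => ?_
  have hij : i ≠ j := h.ne
  rw [LinearMap.add_apply, Pi.add_apply, Module.End.mul_apply, Module.End.mul_apply, op_apply, op_apply, op_apply, op_apply,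
    Function.update_of_ne hij.symm, Function.update_of_ne hij]
  by_cases hi : s i = x
  · by_cases hj : s j = y
    · rw [if_pos hi, if_pos hj, if_pos hj, if_pos hi, show (1 : Fin 2) - x = 1 - s i by rw [hi],
        sgn_flip j i h, sgn_update_of_le i j h.le, Function.update_comm hij]
      simp only [LinearMap.zero_apply, Pi.zero_apply]
      ring
    · simp [hj]
  · simp [hi]

theorem op_anti {i j : Fin m} (h : i ≠ j) (x y : Fin 2) :
    (op i x * op j y + op j y * op i x : Module.End R ((Fin m → Fin 2) → R)) = 0 := by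
  rcases lt_or_gt_of_ne h with h | h
  · exact op_anti_lt h x y
  · rw [add_comm]; exact op_anti_lt h y x

/-- `Σ (u_i α_i + w_i β_i)` squares to `Σ u_i w_i`. -/
theorem sum_sq (u w : Fin m → R) :
    (∑ i, (u i • op i 1 + w i • op i 0) : Module.End R ((Fin m → Fin 2) → R)) * ∑ i, (u i • op i 1 + w i • op i 0) =
      (∑ i, u i * w i) • 1 := by
  classical
  let T : Fin m → Module.End R ((Fin m → Fin 2) → R) := fun i => u i • op i 1 + w i • op i 0
  have hsq : ∀ i, T i * T i = (u i * w i) • 1 := fun i => by
    simp only [T, mul_add, add_mul, smul_mul_assoc, mul_smul_comm, op_sq, smul_zero, zero_add, add_zero]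
    rw [smul_smul, smul_smul, mul_comm (w i), ← smul_add, add_comm, op_add]
  have hanti : ∀ i j, i ≠ j → T i * T j + T j * T i = 0 := fun i j h => by
    simp only [T, mul_add, add_mul, smul_mul_assoc, mul_smul_comm, smul_smul]
    have h11 := op_anti (R := R) h 1 1
    have h10 := op_anti (R := R) h 1 0
    have h01 := op_anti (R := R) h 0 1
    have h00 := op_anti (R := R) h 0 0
    linear_combination (norm := module) (u i * u j) • h11 + (u i * w j) • h10 + (w i * u j) • h01 + (w i * w j) • h00
  exact sq_sum_anti T (fun i => u i * w i) hsq hanti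

/-- A subalgebra with all `op i x` is everything. -/
theorem eq_top_of_op_mem (S : Subalgebra R (Module.End R ((Fin m → Fin 2) → R))) (hS : ∀ i x, op i x ∈ S) : S = ⊤ := by
  classical
  have hproj : ∀ (a : Fin m → Fin 2) (t : Finset (Fin m)),
      ∃ P ∈ S, ∀ f s, P f s = if ∀ i ∈ t, s i = a i then f s else 0 := by
    intro a t
    induction t using Finset.induction with
    | empty => exact ⟨1, one_mem S, fun f s => by simp⟩
    | insert i t hi ih =>
      obtain ⟨P, hP, hPf⟩ := ih
      refine ⟨op i (a i) * op i (1 - a i) * P, mul_mem (mul_mem (hS _ _) (hS _ _)) hP, fun f s => ?_⟩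
      rw [Module.End.mul_apply, op_op_self, hPf]
      simp only [Finset.forall_mem_insert, and_true]
      split_ifs <;> simp_all
  have hflip : ∀ (a b : Fin m → Fin 2) (t : Finset (Fin m)),
      ∃ G ∈ S, ∃ e : R, G (Pi.single b 1) = Pi.single (fun i => if i ∈ t then a i else b i) e ∧ e * e = 1 := by
    intro a b t
    induction t using Finset.induction with
    | empty => exact ⟨1, one_mem S, 1, by simp, one_mul 1⟩
    | insert i t hi ih =>
      obtain ⟨G, hG, e, hGb, he⟩ := ih
      set c : Fin m → Fin 2 := fun j => if j ∈ t then a j else b j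
      by_cases hab : a i = b i
      · refine ⟨G, hG, e, ?_, he⟩
        rw [hGb]
        congr 1
        funext j
        rcases eq_or_ne j i with rfl | hj
        · simp [c, hi, hab]
        · simp [c, hj]
      · set c' : Fin m → Fin 2 := fun j => if j ∈ insert i t then a j else b j
        have hci : c i = b i := if_neg hi
        have hci' : c' i = a i := if_pos (Finset.mem_insert_self i t)
        have hc' : c = Function.update c' i (1 - a i) := by
          funext j
          rcases eq_or_ne j i with rfl | hj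
          · rw [Function.update_self, hci]
            exact (by decide : ∀ x y : Fin 2, x ≠ y → y = 1 - x) _ _ hab
          · rw [Function.update_of_ne hj]; simp [c, c', hj]
        refine ⟨op i (a i) * G, mul_mem (hS _ _) hG, sgn i c' * e, ?_, by linear_combination e * e * sgn_sq (R := R) i c' + he⟩
        rw [Module.End.mul_apply, hGb]
        funext s
        rw [op_apply]
        rcases eq_or_ne s c' with rfl | hs
        · rw [if_pos hci', ← hc', Pi.single_eq_same, Pi.single_eq_same]
        · rw [Pi.single_eq_of_ne hs]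
          split_ifs with hsi
          · rw [Pi.single_eq_of_ne, mul_zero]
            intro h
            apply hs
            funext j
            rcases eq_or_ne j i with rfl | hj
            · rw [hsi, hci']
            · have := congrFun (h.trans hc') j
              rwa [Function.update_of_ne hj, Function.update_of_ne hj] at this
          · rfl
  refine eq_top_iff.2 fun X _ => ?_
  have hunit : ∀ (a b : Fin m → Fin 2), (LinearMap.proj b).smulRight (Pi.single a (1 : R)) ∈ S := by
    intro a b
    obtain ⟨P, hP, hPf⟩ := hproj b Finset.univ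
    obtain ⟨G, hG, e, hGb, he⟩ := hflip a b Finset.univ
    have : (LinearMap.proj b).smulRight (Pi.single a (1 : R)) = e • (G * P) := by
      refine LinearMap.ext fun f => ?_
      have hp : P f = f b • Pi.single b 1 := funext fun s => by
        rw [hPf]
        rcases eq_or_ne s b with rfl | hs
        · simp
        · rw [if_neg fun h => hs (funext fun i => h i (Finset.mem_univ i))]
          simp [Pi.single_eq_of_ne hs]
      rw [LinearMap.smul_apply, Module.End.mul_apply, hp, map_smul, hGb]
      simp only [LinearMap.smulRight_apply, LinearMap.proj_apply, Finset.mem_univ, if_true]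
      rw [show (Pi.single (fun i => a i) e : (Fin m → Fin 2) → R) = e • Pi.single a 1 by
        rw [← Pi.single_smul, smul_eq_mul, mul_one], smul_comm, smul_smul e, he, one_smul]
    rw [this]
    exact S.smul_mem (mul_mem hG hP) e
  have hX : X = ∑ b, ∑ a, X (Pi.single b 1) a • (LinearMap.proj b).smulRight (Pi.single a (1 : R)) := by
    refine LinearMap.ext fun f => ?_
    conv_lhs => rw [pi_eq_sum_univ' f, map_sum]
    simp only [LinearMap.sum_apply, LinearMap.smul_apply, LinearMap.smulRight_apply, LinearMap.proj_apply, map_smul]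
    refine Finset.sum_congr rfl fun b _ => ?_
    conv_lhs => rw [pi_eq_sum_univ' (X (Pi.single b 1)), Finset.smul_sum]
    exact Finset.sum_congr rfl fun a _ => smul_comm _ _ _
  rw [hX]
  exact sum_mem fun b _ => sum_mem fun a _ => S.smul_mem (hunit a b) _

end Spinor

/-! ### Split frames -/

variable {M : Type v} [AddCommGroup M] [Module R M] [Module.Free R M] {Q : QuadraticForm R M}

theorem Frame.exists_matrix_equiv [Nontrivial R] {m : ℕ} (F : Frame Q m)
    (hQ2 : ∀ c, F.Q2 c = ∑ i : Fin m, c (Sum.inl i) * -(c (Sum.inl i) + c (Sum.inr i))) :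
    Nonempty (↥(CliffordAlgebra.even Q) ≃ₐ[R] Matrix (Fin (2 ^ m)) (Fin (2 ^ m)) R) := by
  classical
  let E := Module.End R ((Fin m → Fin 2) → R)
  let T : (Fin m ⊕ Fin m → R) →ₗ[R] E :=
    ∑ i : Fin m, ((LinearMap.proj (Sum.inl i : Fin m ⊕ Fin m)).smulRight (Spinor.op i 1)
      + (-(LinearMap.proj (Sum.inl i : Fin m ⊕ Fin m) : (Fin m ⊕ Fin m → R) →ₗ[R] R) - LinearMap.proj (Sum.inr i)).smulRight (Spinor.op i 0))
  have hT : ∀ c, T c = ∑ i : Fin m, (c (Sum.inl i) • Spinor.op i 1 + (-(c (Sum.inl i) + c (Sum.inr i))) • Spinor.op i 0) :=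
    fun c => by simp [T, sub_eq_add_neg, add_comm]
  let φ : CliffordAlgebra F.Q2 →ₐ[R] E := CliffordAlgebra.lift F.Q2 ⟨T, fun c => by
    rw [hT, Spinor.sum_sq, hQ2, Algebra.algebraMap_eq_smul_one]⟩
  have hsurj : Function.Surjective φ := by
    rw [← AlgHom.range_eq_top]
    refine Spinor.eq_top_of_op_mem _ fun i x => ?_
    have hr : ∀ c, T c ∈ φ.range := fun c => ⟨ι F.Q2 c, by simp [φ]⟩
    have h0 : Spinor.op i 0 = -T (Pi.single (Sum.inr i) 1) := by
      rw [hT, Finset.sum_eq_single i]
      · simp; try module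
      · intro j _ hj; simp [hj]
      · simp
    have h1 : Spinor.op i 1 = T (Pi.single (Sum.inl i) 1) - T (Pi.single (Sum.inr i) 1) := by
      rw [hT, hT, ← Finset.sum_sub_distrib, Finset.sum_eq_single i]
      · simp
      · intro j _ hj; simp [hj]
      · simp
    rcases (by decide : ∀ x : Fin 2, x = 0 ∨ x = 1) x with rfl | rfl
    · rw [h0]; exact neg_mem (hr _)
    · rw [h1]; exact sub_mem (hr _) (hr _)
  have hinj : Function.Injective φ := by
    obtain ⟨z, hz⟩ := F.exists_zQ2
    have hb := (sand_id_bijective F.Q2 F.regular_Q2 hz.W hz.anti_W).1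
    haveI := free F.Q2
    let c := Module.Free.chooseBasis R (CliffordAlgebra F.Q2)
    refine (injective_iff_map_eq_zero _).2 fun x hx => c.ext_elem fun i => ?_
    obtain ⟨q, hq⟩ := hb.2 ((Algebra.linearMap R _) ∘ₗ c.coord i)
    have h := map_sand φ (AlgHom.id R _) (AlgHom.id R _) q x
    rw [hq, hx, map_zero, LinearMap.comp_apply, Algebra.linearMap_apply, AlgHom.commutes] at h
    rw [map_zero, Finsupp.zero_apply]
    have := congrFun (LinearMap.congr_fun h (fun _ => (1 : R))) (fun _ => 0)
    rw [Module.algebraMap_end_apply, Pi.smul_apply, smul_eq_mul, mul_one] at this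
    exact this
  let ψ' : CliffordAlgebra F.Q2 →ₐ[R] ↥(CliffordAlgebra.even Q) := F.ψ.codRestrict _ fun y => F.ψ_mem y
  have hψ' : Function.Bijective ψ' :=
    ⟨fun a b h => F.ψ_injective (congrArg Subtype.val h), fun y => by
      obtain ⟨x, hx⟩ := F.even_le_range y.2
      exact ⟨x, Subtype.ext hx⟩⟩
  exact ⟨(AlgEquiv.ofBijective ψ' hψ').symm.trans ((AlgEquiv.ofBijective φ ⟨hinj, hsurj⟩).trans
    (LinearMap.toMatrixAlgEquiv'.trans (Matrix.reindexAlgEquiv R R finFunctionFinEquiv)))⟩

/-- Isometric to the split form: the even part is a matrix algebra. -/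
theorem exists_even_matrix_equiv {A : Type u} [CommRing A] [Module A M] [Module.Free A M] [Nontrivial A] {m : ℕ}
    {Q : QuadraticForm A M} (b : Module.Basis (Fin (2 * m + 1)) A M)
    (hb : ∀ x, Q x = QuadGrp.splitForm A (2 * m + 1) (b.equivFun x)) :
    Nonempty (↥(CliffordAlgebra.even Q) ≃ₐ[A] Matrix (Fin (2 ^ m)) (Fin (2 ^ m)) A) := by
  classical
  let p : Fin m → M := fun i => b ⟨2 * i + 1, by omega⟩
  let q : Fin m → M := fun i => b ⟨2 * i + 2, by omega⟩
  have hQ : ∀ c : Fin (2 * m + 1) → A, Q (b.equivFun.symm c) =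
      (∑ i : Fin m, c ⟨2 * i + 1, by omega⟩ * c ⟨2 * i + 2, by omega⟩) + c 0 * c 0 := fun c => by
    rw [hb, LinearEquiv.apply_symm_apply, OddSplit.splitForm_odd_apply]
  have hpol : ∀ x y : Fin (2 * m + 1) → A, polar Q (b.equivFun.symm x) (b.equivFun.symm y) =
      (∑ i : Fin m, (x ⟨2 * i + 1, by omega⟩ * y ⟨2 * i + 2, by omega⟩ + y ⟨2 * i + 1, by omega⟩ * x ⟨2 * i + 2, by omega⟩))
        + 2 * (x 0 * y 0) := fun x y => by
    rw [polar, ← map_add, hQ, hQ, hQ]
    simp only [Pi.add_apply, add_mul, mul_add, Finset.sum_add_distrib, mul_comm (y ⟨2 * _ + 1, _⟩)]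
    ring
  have hs : ∀ k, b k = b.equivFun.symm (Pi.single k 1) := fun k => by
    rw [LinearEquiv.eq_symm_apply]
    funext l
    simp [Pi.single_apply, eq_comm]
  have e11 : ∀ i k : Fin m, (Pi.single ⟨2 * (i : ℕ) + 1, by omega⟩ 1 : Fin (2 * m + 1) → A) ⟨2 * k + 1, by omega⟩ = if i = k then 1 else 0 :=
    fun i k => by simp only [Pi.single_apply, Fin.ext_iff]; split_ifs <;> first | rfl | omega
  have e22 : ∀ i k : Fin m, (Pi.single ⟨2 * (i : ℕ) + 2, by omega⟩ 1 : Fin (2 * m + 1) → A) ⟨2 * k + 2, by omega⟩ = if i = k then 1 else 0 :=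
    fun i k => by simp only [Pi.single_apply, Fin.ext_iff]; split_ifs <;> first | rfl | omega
  have e12 : ∀ i k : Fin m, (Pi.single ⟨2 * (i : ℕ) + 1, by omega⟩ 1 : Fin (2 * m + 1) → A) ⟨2 * k + 2, by omega⟩ = 0 :=
    fun i k => by simp only [Pi.single_apply, Fin.ext_iff]; split_ifs <;> first | rfl | omega
  have e21 : ∀ i k : Fin m, (Pi.single ⟨2 * (i : ℕ) + 2, by omega⟩ 1 : Fin (2 * m + 1) → A) ⟨2 * k + 1, by omega⟩ = 0 :=
    fun i k => by simp only [Pi.single_apply, Fin.ext_iff]; split_ifs <;> first | rfl | omega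
  have e10 : ∀ i : Fin m, (Pi.single ⟨2 * (i : ℕ) + 1, by omega⟩ 1 : Fin (2 * m + 1) → A) 0 = 0 :=
    fun i => by simp [Pi.single_apply, Fin.ext_iff]
  have e20 : ∀ i : Fin m, (Pi.single ⟨2 * (i : ℕ) + 2, by omega⟩ 1 : Fin (2 * m + 1) → A) 0 = 0 :=
    fun i => by simp [Pi.single_apply, Fin.ext_iff]
  have e01 : ∀ k : Fin m, (Pi.single 0 1 : Fin (2 * m + 1) → A) ⟨2 * k + 1, by omega⟩ = 0 :=
    fun k => by simp [Pi.single_apply, Fin.ext_iff]
  have e02 : ∀ k : Fin m, (Pi.single 0 1 : Fin (2 * m + 1) → A) ⟨2 * k + 2, by omega⟩ = 0 :=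
    fun k => by simp [Pi.single_apply, Fin.ext_iff]
  have hqq : ∀ i j, i ≠ j → polar Q (q i) (q j) = 0 := fun i j h => by
    simp only [q]; rw [hs, hs, hpol]; simp [e22, e21, e20]
  have hpp : ∀ i j, i ≠ j → polar Q (p i) (p j) = 0 := fun i j h => by
    simp only [p]; rw [hs, hs, hpol]; simp [e11, e12, e10]
  have hpq : ∀ i j, polar Q (p i) (q j) = if i = j then 1 else 0 := fun i j => by
    simp only [p, q]; rw [hs, hs, hpol]; simp [e11, e22, e12, e21, e10, e20, eq_comm]
  have hQp : ∀ i, Q (p i) = 0 := fun i => by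
    simp only [p]; rw [hs, hQ]; simp [e11, e12, e10]
  have hQq : ∀ i, Q (q i) = 0 := fun i => by
    simp only [q]; rw [hs, hQ]; simp [e22, e21, e20]
  have hf : Q (b 0) = 1 := by
    rw [hs, hQ]; simp [e01, e02]
  have hpf0 : ∀ i, polar Q (p i) (b 0) = 0 := fun i => by
    simp only [p]; rw [hs, hs 0, hpol]; simp [e11, e12, e10, e01, e02]
  have hbf : ∀ i, polar Q (q i) (b 0) = 0 := fun i => by
    simp only [q]; rw [hs, hs 0, hpol]; simp [e22, e21, e20, e01, e02]
  let P : Planes Q m :=
    { a := fun i => p i + q i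
      b := q
      ab := fun i => by rw [polar_add_left, hpq, if_pos rfl, polar_self, hQq, smul_zero, add_zero]
      aa := fun i j h => by
        rw [polar_add_left, polar_add_right, polar_add_right, hpp i j h, hpq, if_neg h, hqq i j h, polar_comm, hpq,
          if_neg (Ne.symm h)]
        simp
      bb := hqq
      ab' := fun i j h => by rw [polar_add_left, hpq, if_neg h, hqq i j h, add_zero]
      disc := fun i => by rw [hQq]; simp
      aniso := fun i => by
        rw [QuadraticMap.map_add (⇑Q), hQp, hQq, hpq, if_pos rfl]; simp }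
  have haf : ∀ i, polar Q (P.a i) (b 0) = 0 := fun i => by
    change polar Q (p i + q i) (b 0) = 0
    rw [polar_add_left, hpf0, hbf, add_zero]
  have hpf : P.proj (b 0) = 0 := by
    rw [P.proj_apply]
    refine Finset.sum_eq_zero fun i _ => ?_
    rw [P.coA_apply, P.coB_apply, haf, show polar Q (P.b i) (b 0) = 0 from hbf i]
    simp
  let F : Frame Q m :=
    { P := P
      f := b 0
      coF := b.coord 0
      af := haf
      bf := hbf
      hf := hf ▸ isUnit_one
      coF_f := by simp
      span := fun v => by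
        have : P.proj + (b.coord 0).smulRight (b 0) = LinearMap.id := by
          refine b.ext fun k => ?_
          rw [LinearMap.add_apply, LinearMap.smulRight_apply, LinearMap.id_apply]
          rcases Nat.eq_zero_or_pos (k : ℕ) with hk | hk
          · rw [show k = 0 from Fin.ext hk, hpf]; simp
          · have hk0 : b.coord 0 (b k) = 0 := by
              simp [Finsupp.single_apply, show k ≠ 0 from fun h => by rw [h] at hk; simp at hk]
            rw [hk0, zero_smul, add_zero]
            rcases Nat.even_or_odd' (k : ℕ) with ⟨j, hj | hj⟩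
            · rw [show k = ⟨2 * (⟨j - 1, by omega⟩ : Fin m).val + 2, by simp; omega⟩ from Fin.ext (by simp; omega)]
              exact P.proj_b _
            · rw [show k = ⟨2 * (⟨j, by omega⟩ : Fin m).val + 1, by simp; omega⟩ from Fin.ext (by simp; omega)]
              have h := P.proj_a ⟨j, by omega⟩
              change P.proj (p _ + q _) = p _ + q _ at h
              rw [map_add, show P.proj (q ⟨j, by omega⟩) = q ⟨j, by omega⟩ from P.proj_b _, add_left_inj] at h
              exact h
        exact LinearMap.congr_fun this v }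
  refine F.exists_matrix_equiv fun c => ?_
  rw [Frame.Q2_apply, show Q F.f = 1 from hf, neg_one_mul]
  let w : Fin m → M := fun i => c (Sum.inl i) • p i + (c (Sum.inl i) + c (Sum.inr i)) • q i
  have hL : F.L c = ∑ i, w i := by
    simp only [Frame.L, Fintype.linearCombination_apply, Fintype.sum_sum_type, Sum.elim_inl, Sum.elim_inr, w,
      ← Finset.sum_add_distrib]
    refine Finset.sum_congr rfl fun i _ => ?_
    change c (Sum.inl i) • (p i + q i) + c (Sum.inr i) • q i = _
    module
  have hw : ∀ i j, i ≠ j → polar Q (w i) (w j) = 0 := fun i j h => by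
    simp only [w, polar_add_left, polar_add_right, polar_smul_left, polar_smul_right, hpp i j h, hqq i j h, hpq,
      polar_comm Q (q i) (p j), if_neg h, if_neg (Ne.symm h)]
    simp
  have hQw : ∀ i, Q (w i) = c (Sum.inl i) * (c (Sum.inl i) + c (Sum.inr i)) := fun i => by
    rw [QuadraticMap.map_add (⇑Q), QuadraticMap.map_smul, QuadraticMap.map_smul, hQp, hQq, polar_smul_left,
      polar_smul_right, hpq, if_pos rfl]
    simp
  rw [hL, show Q (∑ i, w i) = ∑ i : Fin m, c (Sum.inl i) * (c (Sum.inl i) + c (Sum.inr i)) by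
    suffices H : ∀ t : Finset (Fin m), Q (∑ i ∈ t, w i) = ∑ i ∈ t, c (Sum.inl i) * (c (Sum.inl i) + c (Sum.inr i)) from
      H Finset.univ
    intro t
    induction t using Finset.induction with
    | empty => simp
    | insert i t hi ih =>
      rw [Finset.sum_insert hi, Finset.sum_insert hi, QuadraticMap.map_add (⇑Q), ih, hQw,
        show polar Q (w i) (∑ j ∈ t, w j) = 0 by
          rw [← polarBilin_apply_apply, map_sum]
          exact Finset.sum_eq_zero fun j hj => hw i j fun h => hi (h ▸ hj), add_zero]]
  simp only [mul_neg, Finset.sum_neg_distrib]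

/-! ### The even part and base change -/

/-- `A ⊗ C₀(Q) → C₀(Q_A)`. -/
def evenBC (Q : QuadraticForm R M) (A : Type w) [CommRing A] [Algebra R A] :
    A ⊗[R] ↥(CliffordAlgebra.even Q) →ₐ[A] ↥(CliffordAlgebra.even (QA Q A)) :=
  AlgHom.codRestrict ((ofBC Q A).comp (Algebra.TensorProduct.map (AlgHom.id A A) (CliffordAlgebra.even Q).val)) _ fun t => by
    induction t using TensorProduct.induction_on with
    | zero => simp
    | add x y hx hy => rw [map_add]; exact add_mem hx hy
    | tmul a x =>
      rw [AlgHom.comp_apply, Algebra.TensorProduct.map_tmul, ofBC_tmul]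
      exact Subalgebra.smul_mem _ (bc_mem_evenOdd Q A x.2) _

theorem evenBC_bijective [Module.Finite R M] (Q : QuadraticForm R M) (A : Type w) [CommRing A] [Algebra R A] :
    Function.Bijective (evenBC Q A) := by
  classical
  haveI := free Q
  haveI := finite Q
  let c := Module.Free.chooseBasis R (CliffordAlgebra Q)
  constructor
  · let pr : CliffordAlgebra Q →ₗ[R] ↥(CliffordAlgebra.even Q) :=
      { toFun := fun x => ⟨↑(DirectSum.decompose (evenOdd Q) x 0), SetLike.coe_mem _⟩
        map_add' := fun x y => Subtype.ext (by simp; rfl)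
        map_smul' := fun r x => Subtype.ext (by simp [DirectSum.decompose_smul]; rfl) }
    have hpr : ∀ t : A ⊗[R] ↥(CliffordAlgebra.even Q),
        LinearMap.lTensor A pr (toBC Q A (evenBC Q A t : CliffordAlgebra (QA Q A))) = t := fun t => by
      induction t using TensorProduct.induction_on with
      | zero => simp
      | add x y hx hy => rw [map_add, Subalgebra.coe_add, map_add, map_add, hx, hy]
      | tmul a x =>
        change LinearMap.lTensor A pr (toBC Q A (ofBC Q A (a ⊗ₜ[R] (x : CliffordAlgebra Q)))) = _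
        rw [ofBC_tmul, map_smul, toBC_bc, TensorProduct.smul_tmul', smul_eq_mul, mul_one, LinearMap.lTensor_tmul]
        congr 1
        exact Subtype.ext (DirectSum.decompose_of_mem_same _ x.2)
    exact fun s t h => by rw [← hpr s, h, hpr t]
  · rintro ⟨y, hy⟩
    refine ⟨∑ i, (bcBasis Q A c).repr y i ⊗ₜ[R] (⟨↑(DirectSum.decompose (evenOdd Q) (c i) 0), SetLike.coe_mem _⟩ : ↥(CliffordAlgebra.even Q)), Subtype.ext ?_⟩
    change ofBC Q A (Algebra.TensorProduct.map (AlgHom.id A A) (CliffordAlgebra.even Q).val (∑ i, _)) = y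
    simp only [map_sum, Algebra.TensorProduct.map_tmul, AlgHom.id_apply, ofBC_tmul, Subalgebra.coe_val]
    have hd : ∀ x, bc Q A ↑(DirectSum.decompose (evenOdd Q) x 0) =
        (↑(DirectSum.decompose (evenOdd (QA Q A)) (bc Q A x) 0) : CliffordAlgebra (QA Q A)) := fun x => by
      conv_rhs => rw [sum_decompose x, map_add, DirectSum.decompose_add, DFinsupp.add_apply, Submodule.coe_add,
        DirectSum.decompose_of_mem_same _ (bc_mem_evenOdd Q A (SetLike.coe_mem _)),
        DirectSum.decompose_of_mem_ne _ (bc_mem_evenOdd Q A (SetLike.coe_mem _)) (by decide : (1 : ZMod 2) ≠ 0), add_zero]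
    conv_rhs => rw [← DirectSum.decompose_of_mem_same (evenOdd (QA Q A)) hy, ← (bcBasis Q A c).sum_repr y,
      DirectSum.decompose_sum]
    rw [DFinsupp.finset_sum_apply, Submodule.coe_sum]
    refine Finset.sum_congr rfl fun i _ => ?_
    rw [hd, bcBasis_apply, DirectSum.decompose_smul]
    rfl

end Groth.Misc12.Cliff
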