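import Groth.Agent.Misc12.Cliff.Odd.Local
import Mathlib.LinearAlgebra.CliffordAlgebra.Star

/-!
Semiregular forms of odd rank: the action of isometries on the odd centre, versors over local rings, isometries of
normalising units.
-/

set_option autoImplicit false
set_option linter.unusedSectionVars false

noncomputable section

open QuadraticMap CliffordAlgebra MulOpposite
open scoped TensorProduct

universe u v w

namespace Groth.Misc12.Cliff

variable {R : Type u} [CommRing R] {M : Type v} [AddCommGroup M] [Module R M] {Q : QuadraticForm R M}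

/-! ### Separability along the even part -/

/-- A separability element for the even part. -/
structure IsSep0 (Q : QuadraticForm R M) (p : CliffordAlgebra Q ⊗[R] (CliffordAlgebra Q)ᵐᵒᵖ) : Prop where
  comm : ∀ x ∈ evenOdd Q 0, (x ⊗ₜ[R] (1 : (CliffordAlgebra Q)ᵐᵒᵖ)) * p = ((1 : CliffordAlgebra Q) ⊗ₜ[R] op x) * p
  unit : sand (AlgHom.id R (CliffordAlgebra Q)) (AlgHom.id R (CliffordAlgebra Q)) p 1 = 1

variable {C' : Type w} [Ring C'] [Algebra R C'] {p : CliffordAlgebra Q ⊗[R] (CliffordAlgebra Q)ᵐᵒᵖ}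

theorem IsSep0.twist (hp : IsSep0 Q p) (α β : CliffordAlgebra Q →ₐ[R] C') {x : CliffordAlgebra Q}
    (hx : x ∈ evenOdd Q 0) (y : C') : α x * sand α β p y = sand α β p y * β x := by
  have h := congrArg (fun q => sand α β q y) (hp.comm x hx)
  simpa [map_mul, sand_tmul] using h

theorem IsSep0.fix (hp : IsSep0 Q p) (α β : CliffordAlgebra Q →ₐ[R] C') {u : C'} (hu : ∀ x, α x * u = u * β x) :
    sand α β p u = u := by
  rw [sand_fix α β p hu, hp.unit, map_one, mul_one]

theorem sand_map {C : Type*} [Ring C] [Algebra R C] {D : Type*} [Ring D] [Algebra R D] (ψ : C →ₐ[R] D)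
    (α β : D →ₐ[R] C') (q : C ⊗[R] Cᵐᵒᵖ) (y : C') :
    sand α β (Algebra.TensorProduct.map ψ (AlgHom.op ψ) q) y = sand (α.comp ψ) (β.comp ψ) q y := by
  induction q using TensorProduct.induction_on with
  | zero => simp
  | tmul a b => simp [sand_tmul]
  | add a b ha hb => simp only [map_add, LinearMap.add_apply, ha, hb]

theorem Frame.exists_sep0 [Module.Free R M] [Nontrivial R] {m : ℕ} (F : Frame Q m) : ∃ p, IsSep0 Q p := by
  obtain ⟨z, hz⟩ := F.exists_zQ2
  obtain ⟨p, hp⟩ := hz.exists_sep F.regular_Q2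
  refine ⟨Algebra.TensorProduct.map F.ψ (AlgHom.op F.ψ) p, fun x hx => ?_, ?_⟩
  · obtain ⟨y, rfl⟩ := F.even_le_range hx
    have := congrArg (Algebra.TensorProduct.map F.ψ (AlgHom.op F.ψ)) (hp.comm y)
    simpa [map_mul] using this
  · rw [sand_map, ← map_one F.ψ, ← AlgHom.comp_id F.ψ]
    have := map_sand F.ψ (AlgHom.id R _) (AlgHom.id R _) p 1
    rw [hp.unit] at this
    simpa using this.symm

/-! ### Elementary lemmas -/

theorem bc_star [Module.Free R M] (A : Type w) [CommRing A] [Algebra R A] (x : CliffordAlgebra Q) :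
    bc Q A (star x) = star (bc Q A x) := by
  induction x using CliffordAlgebra.induction with
  | algebraMap r => rw [star_algebraMap, AlgHom.commutes, IsScalarTower.algebraMap_apply R A, star_algebraMap]
  | ι v => rw [star_ι, map_neg, bc_ι, star_ι]
  | mul x y hx hy => rw [star_mul, map_mul, map_mul, hx, hy, star_mul]
  | add x y hx hy => rw [star_add, map_add, map_add, hx, hy, star_add]

/-- The isometry induced by a normalising unit. -/
theorem exists_isometry_of_mem_GPin' [Module.Free R M] {u : (CliffordAlgebra Q)ˣ} (hu : u ∈ QuadGrp.GPin' Q) :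
    ∃ g : M ≃ₗ[R] M, g ∈ QuadGrp.O Q ∧ ∀ v, (u : CliffordAlgebra Q) * ι Q v = ι Q (g v) * u := by
  classical
  rw [QuadGrp.mem_GPin'] at hu
  have hconj : ∀ v, (u : CliffordAlgebra Q) * ι Q v * ↑u⁻¹ ∈ LinearMap.range (ι Q) := fun v => by
    rw [← hu]
    exact (Submodule.mem_smul_pointwise_iff_exists _ _ _).2
      ⟨_, ⟨v, rfl⟩, by rw [ConjAct.units_smul_def, ConjAct.ofConjAct_toConjAct]⟩
  have hconj' : ∀ v, (↑u⁻¹ : CliffordAlgebra Q) * ι Q v * ↑u ∈ LinearMap.range (ι Q) := fun v => by
    obtain ⟨_, ⟨w, rfl⟩, hw⟩ := (Submodule.mem_smul_pointwise_iff_exists _ _ _).1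
      ((SetLike.ext_iff.1 hu (ι Q v)).2 ⟨v, rfl⟩)
    rw [ConjAct.units_smul_def, ConjAct.ofConjAct_toConjAct] at hw
    refine ⟨w, ?_⟩
    rw [← hw]
    simp only [← mul_assoc, Units.inv_mul, one_mul]
    rw [mul_assoc, Units.inv_mul, mul_one]
  choose g0 hg0 using hconj
  choose h0 hh0 using hconj'
  have hinj := ι_injective Q
  let gl : M →ₗ[R] M :=
    { toFun := g0
      map_add' := fun a b => hinj (by simp only [map_add, hg0, mul_add, add_mul])
      map_smul' := fun r a => hinj (by simp only [map_smul, hg0, mul_smul_comm, smul_mul_assoc, RingHom.id_apply]) }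
  let g : M ≃ₗ[R] M := LinearEquiv.ofBijective gl
    ⟨fun a b h => hinj (u.mul_right_inj.1 (u⁻¹.mul_left_inj.1 (by rw [← hg0, ← hg0]; exact congrArg _ h))),
      fun v => ⟨h0 v, hinj (by
        change ι Q (g0 (h0 v)) = _
        rw [hg0, hh0]
        simp only [← mul_assoc, Units.mul_inv, one_mul]
        rw [mul_assoc, Units.mul_inv, mul_one])⟩⟩
  have hgι : ∀ v, (u : CliffordAlgebra Q) * ι Q v = ι Q (g v) * u := fun v => by
    change _ = ι Q (g0 v) * _
    rw [hg0, Units.inv_mul_cancel_right]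
  refine ⟨g, fun v => algebraMap_injective Q ?_, hgι⟩
  rw [← ι_sq_scalar, ← ι_sq_scalar]
  refine u.mul_left_inj.1 ?_
  rw [mul_assoc, ← hgι, ← mul_assoc, ← hgι, mul_assoc, ι_sq_scalar, Algebra.commutes]

theorem bc_conj [Module.Free R M] [Module.Finite R M] (A : Type w) [CommRing A] [Algebra R A] {g : M ≃ₗ[R] M} (hg : g ∈ QuadGrp.O Q)
    {X : CliffordAlgebra Q} (hX : ∀ x, cmap hg x * X = X * x) (y : CliffordAlgebra (QA Q A)) :
    cmap (baseChange_mem_O A hg) y * bc Q A X = bc Q A X * y := by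
  obtain ⟨t, rfl⟩ := (bcEquiv Q A).symm.surjective y
  change cmap _ (ofBC Q A t) * _ = _ * ofBC Q A t
  induction t using TensorProduct.induction_on with
  | zero => simp
  | tmul a x => rw [ofBC_tmul, map_smul, ← cmap_bc A hg, smul_mul_assoc, mul_smul_comm, ← map_mul, ← map_mul, hX]
  | add x y hx hy => rw [map_add, map_add, add_mul, mul_add, hx, hy]

section Central

variable [Module.Free R M] [Module.Finite R M] {m : ℕ} {b : Module.Basis (Fin (2 * m + 1)) R M}
  {g : M ≃ₗ[R] M} (hg : g ∈ QuadGrp.O Q)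

/-- An isometry multiplies odd central elements by its determinant: local case. -/
theorem cmap_central_local [IsLocalRing R] (hQ : QuadGrp.IsSemiregular b (LinearEquiv.refl R R) Q)
    {y : CliffordAlgebra Q} (hy : y ∈ evenOdd Q 1) (hc : ∀ x, x * y = y * x) :
    cmap hg y = LinearMap.det g.toLinearMap • y := by
  obtain ⟨F⟩ := exists_frame hQ
  apply bc_injective Q (Nag R) (nag_injective R)
  obtain ⟨⟨ζ, hζ, hζg⟩, -⟩ := (F.bc (Nag R)).zeta_action_inf (nag_infinite R) (baseChange_mem_O (Nag R) hg)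
  obtain ⟨t, ht⟩ := hζ.eq_smul_of_central (F.bc (Nag R)) (bc_mem_evenOdd Q (Nag R) hy)
    (fun x _ => commute_all_of_commute_bc (Nag R) (fun z => by rw [← map_mul, hc, map_mul]) x)
  rw [cmap_bc, map_smul, ht, map_smul, hζg, det_baseChange_eq, ← algebraMap_smul (Nag R) (LinearMap.det g.toLinearMap),
    smul_comm]

/-- An isometry multiplies odd central elements by its determinant. -/
theorem cmap_central (hQ : QuadGrp.IsSemiregular b (LinearEquiv.refl R R) Q)
    {y : CliffordAlgebra Q} (hy : y ∈ evenOdd Q 1) (hc : ∀ x, x * y = y * x) :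
    cmap hg y = LinearMap.det g.toLinearMap • y := by
  refine eq_of_forall_bc_eq fun P _ => ?_
  rw [cmap_bc, map_smul,
    cmap_central_local (baseChange_mem_O _ hg) (isSemiregular_QA hQ (Localization.AtPrime P)) (bc_mem_evenOdd Q _ hy)
      (fun z => commute_all_of_commute_bc _ (fun x => by rw [← map_mul, hc, map_mul]) z),
    det_baseChange_eq, algebraMap_smul]

include hg in
theorem det_eq_one_of_conj [IsLocalRing R] (hQ : QuadGrp.IsSemiregular b (LinearEquiv.refl R R) Q)
    (u : (CliffordAlgebra Q)ˣ) (hu : ∀ v, (u : CliffordAlgebra Q) * ι Q v = ι Q (g v) * u) :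
    LinearMap.det g.toLinearMap = 1 := by
  obtain ⟨F⟩ := exists_frame hQ
  obtain ⟨ζ, hζ⟩ := F.exists_zeta
  obtain ⟨d, hd, hζζ⟩ := hζ.sq
  have h1 : cmap hg ζ = ζ := u.mul_left_inj.1 (by rw [cmap_mul_of_even hg _ hu, hζ.central])
  rw [cmap_central_local hg hQ hζ.odd hζ.central] at h1
  apply algebraMap_injective Q
  have h2 := congrArg (fun e => e * ζ) h1
  rw [smul_mul_assoc, hζζ, Algebra.smul_def, ← map_mul] at h2
  rw [map_one]
  exact (hd.map (algebraMap R (CliffordAlgebra Q))).mul_right_cancel (by rw [one_mul, ← map_mul]; exact h2)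

include hg in
theorem det_eq_one_of_mem_GPin' (hQ : QuadGrp.IsSemiregular b (LinearEquiv.refl R R) Q)
    (u : (CliffordAlgebra Q)ˣ) (hu : ∀ v, (u : CliffordAlgebra Q) * ι Q v = ι Q (g v) * u) :
    LinearMap.det g.toLinearMap = 1 := by
  apply algebraMap_injective Q
  refine eq_of_forall_bc_eq fun P _ => ?_
  rw [AlgHom.commutes, AlgHom.commutes, IsScalarTower.algebraMap_apply R (Localization.AtPrime P), ← det_baseChange_eq,
    det_eq_one_of_conj (baseChange_mem_O _ hg) (isSemiregular_QA hQ (Localization.AtPrime P))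
      (Units.map (bc Q (Localization.AtPrime P)).toRingHom.toMonoidHom u) ?_, map_one, map_one]
  intro v
  have := bc_conj (Localization.AtPrime P) hg (cmap_mul_of_even hg _ hu) (ι (QA Q (Localization.AtPrime P)) v)
  rw [cmap_ι] at this
  exact this.symm

include hg in
/-- Over a local ring, an isometry of determinant one is induced by an even unit. -/
theorem exists_even_versor [IsLocalRing R] (hQ : QuadGrp.IsSemiregular b (LinearEquiv.refl R R) Q)
    (hd : LinearMap.det g.toLinearMap = 1) :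
    ∃ u : (CliffordAlgebra Q)ˣ, (u : CliffordAlgebra Q) ∈ evenOdd Q 0 ∧
      ∀ v, (u : CliffordAlgebra Q) * ι Q v = ι Q (g v) * u := by
  classical
  obtain ⟨F⟩ := exists_frame hQ
  obtain ⟨p, hp⟩ := F.exists_sep0
  obtain ⟨ζ, hζ⟩ := F.exists_zeta
  let A := Nag R
  have hinj := nag_injective R
  let FA := F.bc A
  obtain ⟨-, hv⟩ := FA.zeta_action_inf (nag_infinite R) (baseChange_mem_O A hg)
  obtain ⟨w, hw0, hw⟩ := hv (by rw [det_baseChange_eq, hd, map_one])
  have hζg : cmap hg ζ = ζ := by rw [cmap_central_local hg hQ hζ.odd hζ.central, hd, one_smul]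
  -- the even components of the projection intertwine
  let T := fun y => (↑(DirectSum.decompose (evenOdd Q) (sand (cmap hg) (AlgHom.id R _) p y) 0) : CliffordAlgebra Q)
  have hgrade : ∀ {j : ZMod 2} {x : CliffordAlgebra Q}, x ∈ evenOdd Q j → cmap hg x ∈ evenOdd Q j := by
    intro j x hx
    have hle : (evenOdd Q j).map (cmap hg).toLinearMap ≤ evenOdd Q j := by
      rw [evenOdd, Submodule.map_iSup]
      refine iSup_mono fun i => ?_
      rw [Submodule.map_pow]
      exact pow_le_pow_left' (by rintro _ ⟨_, ⟨v, rfl⟩, rfl⟩; exact ⟨g v, (cmap_ι hg v).symm⟩) _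
    exact hle ⟨x, hx, rfl⟩
  have hT : ∀ y x, cmap hg x * T y = T y * x := by
    intro y
    have heven : ∀ x ∈ evenOdd Q 0, cmap hg x * T y = T y * x := by
      intro x hx
      have h := hp.twist (cmap hg) (AlgHom.id R _) hx y
      rw [sum_decompose (sand (cmap hg) (AlgHom.id R _) p y), mul_add, add_mul, AlgHom.id_apply] at h
      replace h := sub_eq_sub_iff_add_eq_add.2 (h.trans (add_comm _ _))
      have h1 := eq_zero_of_mem_mem (x := cmap hg x * T y - T y * x)
        (by simpa using sub_mem (SetLike.mul_mem_graded (hgrade hx) (SetLike.coe_mem (DirectSum.decompose (evenOdd Q) (sand (cmap hg) (AlgHom.id R _) p y) 0))) (SetLike.mul_mem_graded (SetLike.coe_mem (DirectSum.decompose (evenOdd Q) (sand (cmap hg) (AlgHom.id R _) p y) 0)) hx))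
        (by
          change (cmap hg x * ↑(DirectSum.decompose (evenOdd Q) _ 0) - _) ∈ _
          rw [h]
          refine sub_mem ?_ ?_
          · simpa using SetLike.mul_mem_graded (SetLike.coe_mem _) hx
          · simpa using SetLike.mul_mem_graded (hgrade hx) (SetLike.coe_mem _))
      exact sub_eq_zero.1 h1
    intro x
    rw [sum_decompose x, map_add, add_mul, mul_add, heven _ (SetLike.coe_mem _)]
    congr 1
    obtain ⟨x0, hx0, hx1⟩ := hζ.exists_even_of_odd (SetLike.coe_mem (DirectSum.decompose (evenOdd Q) x 1))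
    rw [hx1, map_mul, hζg, mul_assoc, heven x0 hx0, ← mul_assoc, ← hζ.central, mul_assoc]
  have hs : ∀ y, ∃ s : A, bc Q A (T y) = s • (w : CliffordAlgebra (QA Q A)) := by
    intro y
    set X := bc Q A (T y)
    have hX := bc_conj A hg (hT y)
    have hX0 : X ∈ evenOdd (QA Q A) 0 := bc_mem_evenOdd Q A (SetLike.coe_mem _)
    have hwc : ∀ x, cmap (baseChange_mem_O A hg) x * (w : CliffordAlgebra (QA Q A)) = (w : CliffordAlgebra (QA Q A)) * x :=
      cmap_mul_of_even _ _ hw
    obtain ⟨s, hs⟩ := FA.center_even (y := (↑w⁻¹ : CliffordAlgebra (QA Q A)) * X)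
      (by simpa using SetLike.mul_mem_graded (inv_mem_evenOdd w hw0) hX0) fun x _ => by
        have h1 : x * (↑w⁻¹ : CliffordAlgebra (QA Q A)) = (↑w⁻¹ : CliffordAlgebra (QA Q A)) * cmap (baseChange_mem_O A hg) x := by
          rw [Units.eq_inv_mul_iff_mul_eq, ← mul_assoc, ← hwc, Units.mul_inv_cancel_right]
        rw [← mul_assoc, h1, mul_assoc, hX, mul_assoc]
    exact ⟨s, by rw [Algebra.smul_def, Algebra.commutes, hs, Units.mul_inv_cancel_left]⟩
  choose s hs using hs
  haveI := free Q
  haveI := finite Q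
  let c := Module.Free.chooseBasis R (CliffordAlgebra Q)
  set r := fun i => (bcBasis Q A c).repr (Units.val w) i
  have hα : ∀ x, ((bc Q A).comp (cmap hg)) x * (w : CliffordAlgebra (QA Q A)) = (w : CliffordAlgebra (QA Q A)) * bc Q A x :=
    fun x => by rw [AlgHom.comp_apply, cmap_bc, cmap_mul_of_even _ _ hw]
  have hsumw : ∑ i, r i • bc Q A (sand (cmap hg) (AlgHom.id R _) p (c i)) = Units.val w := by
    conv_rhs => rw [← hp.fix _ _ hα, ← (bcBasis Q A c).sum_repr (Units.val w), map_sum]
    refine Finset.sum_congr rfl fun i _ => ?_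
    rw [sand_smul, bcBasis_apply, map_sand]
    rfl
  have hsum : ∑ i, r i * s (c i) = 1 := by
    set d := ∑ i, r i • bc Q A (↑(DirectSum.decompose (evenOdd Q) (sand (cmap hg) (AlgHom.id R _) p (c i)) 1))
    have hd1 : d ∈ evenOdd (QA Q A) 1 := sum_mem fun i _ => Submodule.smul_mem _ _ (bc_mem_evenOdd Q A (SetLike.coe_mem _))
    have he : (w : CliffordAlgebra (QA Q A)) = (∑ i, r i * s (c i)) • (w : CliffordAlgebra (QA Q A)) + d := by
      conv_lhs => rw [← hsumw]
      rw [Finset.sum_smul, ← Finset.sum_add_distrib]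
      refine Finset.sum_congr rfl fun i _ => ?_
      rw [mul_smul, ← hs, ← smul_add, ← map_add, ← sum_decompose]
    have hd0 : d = 0 := by
      refine eq_zero_of_mem_mem ?_ hd1
      rw [show d = (w : CliffordAlgebra (QA Q A)) - (∑ i, r i * s (c i)) • (w : CliffordAlgebra (QA Q A)) from
        eq_sub_of_add_eq' he.symm]
      exact sub_mem hw0 (Submodule.smul_mem _ _ hw0)
    rw [hd0, add_zero] at he
    apply algebraMap_injective (R := A) (M := A ⊗[R] M) (QA Q A)
    rw [map_one]
    exact w.mul_left_inj.1 (by rw [← Algebra.smul_def, one_mul]; exact he.symm)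
  obtain ⟨i, hi⟩ : ∃ i, IsUnit (s (c i)) := by
    by_contra h
    push Not at h
    refine (IsLocalRing.maximalIdeal A).ne_top_iff_one.1 (Ideal.IsPrime.ne_top inferInstance) ?_
    rw [← hsum]
    exact sum_mem fun i _ => Ideal.mul_mem_left _ _ ((IsLocalRing.mem_maximalIdeal _).2 (h i))
  have hu : IsUnit (T (c i)) := isUnit_of_bc A (by
    rw [hs, Algebra.smul_def]
    exact (hi.map _).mul w.isUnit)
  exact ⟨hu.unit, SetLike.coe_mem _, fun v => by rw [IsUnit.unit_spec, ← cmap_ι hg, hT]⟩

end Central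

end Groth.Misc12.Cliff
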