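import Groth.Agent.Misc12.Cliff.Odd.Frame
import Groth.Agent.Misc12.Cliff.Parity
import Mathlib.LinearAlgebra.Transvection.Basic

/-!
Semiregular forms of odd rank over local rings: the even Clifford algebra, the odd central element, and versors for
isometries of determinant one.
-/

set_option autoImplicit false
set_option linter.unusedSectionVars false

noncomputable section

open QuadraticMap CliffordAlgebra
open scoped TensorProduct

universe u v w

namespace Groth.Misc12.Cliff

variable {R : Type u} [CommRing R] {M : Type v} [AddCommGroup M] [Module R M] {Q : QuadraticForm R M}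

theorem Planes.isRegular [Module.Free R M] [Module.Finite R M] {k : ℕ} (P : Planes Q k)
    (hM : Module.finrank R M = 2 * k) : QuadGrp.IsRegular Q := by
  classical
  constructor
  · refine (injective_iff_map_eq_zero _).2 fun x hx => ?_
    rw [← P.sum_eq hM x]
    refine Finset.sum_eq_zero fun i _ => ?_
    have h1 : ∀ y, polar Q y x = 0 := fun y => by rw [polar_comm]; exact LinearMap.congr_fun hx y
    rw [P.coA_apply, P.coB_apply, h1, h1]
    simp
  · intro φ
    refine ⟨∑ i, ((P.c i * (φ (P.b i) - 2 * Q (P.b i) * φ (P.a i))) • P.a i +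
      (P.c i * (φ (P.a i) - 2 * Q (P.a i) * φ (P.b i))) • P.b i), LinearMap.ext fun v => ?_⟩
    have key : ∀ j, ∑ i, ((P.c i * (φ (P.b i) - 2 * Q (P.b i) * φ (P.a i))) * polar Q (P.a i) (P.a j) +
        (P.c i * (φ (P.a i) - 2 * Q (P.a i) * φ (P.b i))) * polar Q (P.b i) (P.a j)) = φ (P.a j) ∧
        ∑ i, ((P.c i * (φ (P.b i) - 2 * Q (P.b i) * φ (P.a i))) * polar Q (P.a i) (P.b j) +
        (P.c i * (φ (P.a i) - 2 * Q (P.a i) * φ (P.b i))) * polar Q (P.b i) (P.b j)) = φ (P.b j) := by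
      intro j
      constructor <;>
      · rw [Finset.sum_eq_single j]
        · rw [polar_self, nsmul_eq_mul, Nat.cast_ofNat]
          first
          | (rw [P.ba]; linear_combination (norm := ring) φ (P.a j) * P.c_mul j)
          | (rw [P.ab]; linear_combination (norm := ring) φ (P.b j) * P.c_mul j)
        · intro i _ h
          simp [P.aa i j h, P.ba' i j h, P.ab' i j h, P.bb i j h]
        · simp
    conv_rhs => rw [← P.sum_eq hM v]
    conv_lhs => rw [← P.sum_eq hM v]
    simp only [map_sum, LinearMap.coe_sum, Finset.sum_apply, map_add, map_smul, LinearMap.add_apply, LinearMap.smul_apply,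
      polarBilin_apply_apply, smul_eq_mul]
    refine Finset.sum_congr rfl fun j _ => ?_
    rw [(key j).1, (key j).2]

namespace Frame

variable {m : ℕ} (F : Frame Q m)

/-- The inclusion of the planes. -/
def L : (Fin m ⊕ Fin m → R) →ₗ[R] M := Fintype.linearCombination R (Sum.elim F.P.a F.P.b)

/-- The form whose Clifford algebra is the even one. -/
def Q2 : QuadraticForm R (Fin m ⊕ Fin m → R) := (-Q F.f) • Q.comp F.L

theorem Q2_apply (c : Fin m ⊕ Fin m → R) : F.Q2 c = -Q F.f * Q (F.L c) := rfl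

theorem L_single_inl (i : Fin m) : F.L (Pi.single (Sum.inl i) 1) = F.P.a i := by
  classical
  simp [L, Fintype.linearCombination_apply, Pi.single_apply, ite_smul]

theorem L_single_inr (i : Fin m) : F.L (Pi.single (Sum.inr i) 1) = F.P.b i := by
  classical
  simp [L, Fintype.linearCombination_apply, Pi.single_apply, ite_smul]

theorem polar_Q2 (c d : Fin m ⊕ Fin m → R) : polar F.Q2 c d = -Q F.f * polar Q (F.L c) (F.L d) := by
  simp only [polar, Q2_apply, map_add, mul_sub]

/-- The inverse of `- Q f`. -/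
def ν : R := ↑(F.hf.neg.unit⁻¹)

theorem ν_mul : F.ν * -Q F.f = 1 := F.hf.neg.val_inv_mul

/-- The planes of the even form. -/
def P2 : Planes F.Q2 m where
  a i := Pi.single (Sum.inl i) 1
  b i := F.ν • Pi.single (Sum.inr i) 1
  ab i := by
    rw [polar_smul_right, polar_Q2, L_single_inl, L_single_inr, F.P.ab, mul_one, smul_eq_mul, ν_mul]
  aa i j h := by rw [polar_Q2, L_single_inl, L_single_inl, F.P.aa i j h, mul_zero]
  bb i j h := by
    rw [polar_smul_left, polar_smul_right, polar_Q2, L_single_inr, L_single_inr, F.P.bb i j h, mul_zero, smul_zero,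
      smul_zero]
  ab' i j h := by rw [polar_smul_right, polar_Q2, L_single_inl, L_single_inr, F.P.ab' i j h, mul_zero, smul_zero]
  disc i := by
    rw [QuadraticMap.map_smul, Q2_apply, Q2_apply, L_single_inl, L_single_inr, smul_eq_mul]
    convert F.P.disc i using 1
    linear_combination (-4 * Q (F.P.a i) * Q (F.P.b i) * (F.ν * -Q F.f + 1)) * F.ν_mul
  aniso i := by
    rw [Q2_apply, L_single_inl]
    exact F.hf.neg.mul (F.P.aniso i)

theorem finrank_Q2 [Nontrivial R] : Module.finrank R (Fin m ⊕ Fin m → R) = 2 * m := by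
  rw [Module.finrank_fintype_fun_eq_card, Fintype.card_sum, Fintype.card_fin, two_mul]

theorem regular_Q2 [Nontrivial R] : QuadGrp.IsRegular F.Q2 := F.P2.isRegular finrank_Q2

theorem polar_f_L (c : Fin m ⊕ Fin m → R) : polar Q F.f (F.L c) = 0 := by
  rw [L, Fintype.linearCombination_apply, ← polarBilin_apply_apply, map_sum]
  refine Finset.sum_eq_zero fun s _ => ?_
  rcases s with i | i <;> simp [polar_comm _ F.f, F.af, F.bf]

theorem f_mul_L (c : Fin m ⊕ Fin m → R) : ι Q F.f * ι Q (F.L c) = -(ι Q (F.L c) * ι Q F.f) :=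
  eq_neg_of_add_eq_zero_left (by rw [ι_mul_ι_add_swap, polar_f_L, map_zero])

/-- `C(Q2) → C(Q)`, onto the even part. -/
def ψ : CliffordAlgebra F.Q2 →ₐ[R] CliffordAlgebra Q :=
  lift F.Q2 ⟨(LinearMap.mulRight R (ι Q F.f)).comp ((ι Q).comp F.L), fun c => by
    simp only [LinearMap.comp_apply, LinearMap.mulRight_apply, Q2_apply]
    rw [mul_assoc, ← mul_assoc (ι Q F.f), f_mul_L, neg_mul, mul_neg, mul_assoc, ι_sq_scalar, ← mul_assoc, ι_sq_scalar,
      ← map_mul (algebraMap R (CliffordAlgebra Q)), ← map_neg, neg_mul, mul_comm]⟩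

theorem ψ_ι (c : Fin m ⊕ Fin m → R) : F.ψ (ι F.Q2 c) = ι Q (F.L c) * ι Q F.f := by
  rw [ψ, lift_ι_apply]
  rfl

theorem ψ_mem (y : CliffordAlgebra F.Q2) : F.ψ y ∈ evenOdd Q 0 := by
  induction y using CliffordAlgebra.induction with
  | algebraMap r => rw [AlgHom.commutes]; exact SetLike.algebraMap_mem_graded _ _
  | ι c => rw [ψ_ι]; exact ι_mul_ι_mem_evenOdd_zero Q _ _
  | mul x y hx hy => rw [map_mul]; simpa using SetLike.mul_mem_graded hx hy
  | add x y hx hy => rw [map_add]; exact add_mem hx hy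

theorem f_commute_ψ {y : CliffordAlgebra F.Q2} (hy : y ∈ evenOdd F.Q2 0) : Commute (ι Q F.f) (F.ψ y) := by
  induction y, hy using CliffordAlgebra.even_induction with
  | algebraMap r => rw [AlgHom.commutes]; exact Algebra.commute_algebraMap_right r _
  | add x y _ _ hx hy => rw [map_add]; exact hx.add_right hy
  | ι_mul_ι_mul c d x _ hx =>
    rw [map_mul, map_mul, ψ_ι, ψ_ι]
    refine Commute.mul_right ?_ hx
    have h : ∀ c, ι Q F.f * (ι Q (F.L c) * ι Q F.f) = -((ι Q (F.L c) * ι Q F.f) * ι Q F.f) := fun c => by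
      rw [← mul_assoc, f_mul_L, neg_mul]
    change _ = _
    rw [← mul_assoc, h, neg_mul, mul_assoc, h, mul_neg, neg_neg, mul_assoc]
    simp only [mul_assoc]

theorem exists_coord (v : M) : ∃ c : Fin m ⊕ Fin m → R, v = F.L c + F.coF v • F.f :=
  ⟨Sum.elim (fun i => F.P.coA i v) (fun i => F.P.coB i v), by
    conv_lhs => rw [← F.span v]
    simp [L, Fintype.linearCombination_apply, F.P.proj_apply, Fintype.sum_sum_type, Finset.sum_add_distrib]⟩

theorem even_le_range {y : CliffordAlgebra Q} (hy : y ∈ evenOdd Q 0) : y ∈ F.ψ.range := by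
  induction y, hy using CliffordAlgebra.even_induction with
  | algebraMap r => exact F.ψ.range.algebraMap_mem r
  | add x y _ _ hx hy => exact add_mem hx hy
  | ι_mul_ι_mul v w x _ hx =>
    refine mul_mem ?_ hx
    obtain ⟨c, hc⟩ := F.exists_coord v
    obtain ⟨d, hd⟩ := F.exists_coord w
    have hLf : ∀ c, ι Q (F.L c) * ι Q F.f ∈ F.ψ.range := fun c => ⟨ι F.Q2 c, F.ψ_ι c⟩
    rw [hc, hd, map_add, map_add, map_smul, map_smul, add_mul, mul_add, mul_add]
    simp only [mul_smul_comm, smul_mul_assoc, smul_smul, f_mul_L, ι_sq_scalar]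
    refine add_mem (add_mem ?_ (Subalgebra.smul_mem _ (hLf c) _)) (add_mem (Subalgebra.smul_mem _ (neg_mem (hLf d)) _)
      (Subalgebra.smul_mem _ (Subalgebra.algebraMap_mem _ _) _))
    have : ι Q (F.L c) * ι Q (F.L d) = F.ν • ((ι Q (F.L c) * ι Q F.f) * (ι Q (F.L d) * ι Q F.f)) := by
      rw [mul_assoc (ι Q (F.L c)), ← mul_assoc (ι Q F.f), f_mul_L, neg_mul, mul_neg, mul_assoc (ι Q (F.L d)), ι_sq_scalar,
        ← mul_assoc, ← Algebra.commutes, ← neg_mul, ← map_neg, ← Algebra.smul_def, smul_smul, ν_mul, one_smul]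
    rw [this]
    exact Subalgebra.smul_mem _ (mul_mem (hLf c) (hLf d)) _

theorem exists_zQ2 [Nontrivial R] : ∃ z, IsZ F.Q2 z := F.P2.exists_isZ finrank_Q2

theorem ψ_injective [Module.Free R M] [Nontrivial R] : Function.Injective F.ψ := by
  classical
  obtain ⟨z, hz⟩ := F.exists_zQ2
  have hb := (sand_id_bijective F.Q2 F.regular_Q2 hz.W hz.anti_W).1
  haveI := free F.Q2
  let c := Module.Free.chooseBasis R (CliffordAlgebra F.Q2)
  refine (injective_iff_map_eq_zero _).2 fun x hx => c.ext_elem fun i => ?_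
  obtain ⟨q, hq⟩ := hb.2 ((Algebra.linearMap R _) ∘ₗ c.coord i)
  have h := map_sand F.ψ (AlgHom.id R _) (AlgHom.id R _) q x
  rw [hq, hx, map_zero, LinearMap.comp_apply, Algebra.linearMap_apply, AlgHom.commutes] at h
  rw [map_zero, Finsupp.zero_apply]
  exact (algebraMap_injective Q) (h.trans (map_zero _).symm)

include F in
/-- An even element commuting with the even part is a scalar. -/
theorem center_even [Module.Free R M] [Nontrivial R] {y : CliffordAlgebra Q} (hy : y ∈ evenOdd Q 0)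
    (hc : ∀ x ∈ evenOdd Q 0, x * y = y * x) : y ∈ Set.range (algebraMap R (CliffordAlgebra Q)) := by
  obtain ⟨z, hz⟩ := F.exists_zQ2
  obtain ⟨p, hp⟩ := hz.exists_sep F.regular_Q2
  obtain ⟨y', rfl⟩ := F.even_le_range hy
  obtain ⟨r, hr⟩ := hp.center (c := y') fun x => F.ψ_injective (by rw [map_mul, map_mul]; exact hc _ (F.ψ_mem x))
  exact ⟨r, by rw [← hr]; exact (F.ψ.commutes r).symm⟩

end Frame

/-- An odd central element of unit square which anti-fixes the vectors. -/
structure IsZeta (Q : QuadraticForm R M) (m : ℕ) (ζ : CliffordAlgebra Q) : Prop where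
  odd : ζ ∈ evenOdd Q 1
  central : ∀ x, x * ζ = ζ * x
  sq : ∃ d : R, IsUnit d ∧ ζ * ζ = algebraMap R _ d
  star_eq : star ζ = ((-1 : R) ^ (m + 1)) • ζ

theorem Frame.exists_zeta_equiv [Module.Free R M] [Module.Finite R M] [Nontrivial R] {m : ℕ} (F : Frame Q m) :
    ∃ ζ, IsZeta Q m ζ ∧ ∀ (h : M ≃ₗ[R] M) (hO : h ∈ QuadGrp.O Q) (c : R),
      (∀ i, h (F.P.a i) = F.P.a i ∧ h (F.P.b i) = F.P.b i) → h F.f = c • F.f → cmap hO ζ = c • ζ := by
  classical
  -- the elements `1 - 2 a b`
  let e : Fin m → CliffordAlgebra Q := fun i => 1 - 2 • (ι Q (F.P.a i) * ι Q (F.P.b i))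
  have hba : ∀ i, ι Q (F.P.b i) * ι Q (F.P.a i) = 1 - ι Q (F.P.a i) * ι Q (F.P.b i) := fun i => by
    rw [eq_sub_iff_add_eq, ι_mul_ι_add_swap, F.P.ba, map_one]
  have hsw : ∀ x y, polar Q x y = 0 → ι Q x * ι Q y = -(ι Q y * ι Q x) := fun x y h =>
    eq_neg_of_add_eq_zero_left (by rw [ι_mul_ι_add_swap, h, map_zero])
  have hself : ∀ i, ι Q (F.P.a i) * e i = -(e i * ι Q (F.P.a i)) ∧ ι Q (F.P.b i) * e i = -(e i * ι Q (F.P.b i)) := by
    intro i
    constructor
    · rw [eq_neg_iff_add_eq_zero]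
      simp only [e, mul_sub, sub_mul, mul_one, one_mul, two_nsmul, mul_add, add_mul]
      rw [mul_assoc (ι Q (F.P.a i)) (ι Q (F.P.b i)), hba, mul_sub, mul_one]
      abel
    · rw [eq_neg_iff_add_eq_zero]
      simp only [e, mul_sub, sub_mul, mul_one, one_mul, two_nsmul, mul_add, add_mul]
      rw [← mul_assoc (ι Q (F.P.b i)), hba, sub_mul, one_mul]
      abel
  have hcom : ∀ i x, polar Q x (F.P.a i) = 0 → polar Q x (F.P.b i) = 0 → Commute (ι Q x) (e i) := fun i x h1 h2 => by
    refine (Commute.one_right _).sub_right (Commute.smul_right ?_ 2)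
    change _ = _
    rw [← mul_assoc, hsw _ _ h1, neg_mul, mul_assoc, hsw _ _ h2, mul_neg, neg_neg, mul_assoc]
  have hsq : ∀ i, e i * e i = algebraMap R _ (1 - 4 * Q (F.P.a i) * Q (F.P.b i)) := by
    intro i
    have h : ι Q (F.P.a i) * ι Q (F.P.b i) * (ι Q (F.P.a i) * ι Q (F.P.b i)) =
        ι Q (F.P.a i) * ι Q (F.P.b i) - algebraMap R _ (Q (F.P.a i) * Q (F.P.b i)) := by
      rw [mul_assoc, ← mul_assoc (ι Q (F.P.b i)), hba, sub_mul, one_mul, mul_sub, mul_assoc, ι_sq_scalar, ← mul_assoc,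
        ι_sq_scalar, ← map_mul (algebraMap R (CliffordAlgebra Q))]
    simp only [e, two_nsmul, sub_mul, mul_sub, one_mul, mul_one, add_mul, mul_add, h, Algebra.algebraMap_eq_smul_one]
    module
  have hstar : ∀ i, star (e i) = -e i := by
    intro i
    simp only [e, star_sub, star_one, two_nsmul, star_add, star_mul, star_ι, neg_mul_neg, hba]
    abel
  suffices H : ∀ s : Finset (Fin m), ∃ W : CliffordAlgebra Q, W ∈ evenOdd Q 0 ∧
      (∀ i ∈ s, ι Q (F.P.a i) * W = -(W * ι Q (F.P.a i)) ∧ ι Q (F.P.b i) * W = -(W * ι Q (F.P.b i))) ∧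
      (∀ x, (∀ i ∈ s, polar Q x (F.P.a i) = 0 ∧ polar Q x (F.P.b i) = 0) → Commute (ι Q x) W) ∧
      (∃ d : R, IsUnit d ∧ W * W = algebraMap R _ d) ∧ star W = ((-1 : R) ^ s.card) • W ∧
      ∀ (h : M ≃ₗ[R] M) (hO : h ∈ QuadGrp.O Q), (∀ i, h (F.P.a i) = F.P.a i ∧ h (F.P.b i) = F.P.b i) → cmap hO W = W by
    obtain ⟨W, hW0, hW1, hW2, ⟨d, hd, hWW⟩, hWs, hWh⟩ := H Finset.univ
    have hfW : Commute (ι Q F.f) W := hW2 _ fun i _ => ⟨by rw [polar_comm]; exact F.af i, by rw [polar_comm]; exact F.bf i⟩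
    have hfa : ∀ i, Commute (ι Q (F.P.a i)) (ι Q F.f * W) ∧ Commute (ι Q (F.P.b i)) (ι Q F.f * W) := fun i => by
      constructor <;> change _ = _
      · rw [← mul_assoc, hsw _ _ (F.af i), neg_mul, mul_assoc, (hW1 i (Finset.mem_univ i)).1, mul_neg, neg_neg, mul_assoc]
      · rw [← mul_assoc, hsw _ _ (F.bf i), neg_mul, mul_assoc, (hW1 i (Finset.mem_univ i)).2, mul_neg, neg_neg, mul_assoc]
    have hv : ∀ v, Commute (ι Q v) (ι Q F.f * W) := fun v => by
      rw [← F.span v, map_add, map_smul, F.P.proj_apply, map_sum]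
      refine (Commute.sum_left _ _ _ fun i _ => ?_).add_left (((Commute.refl _).mul_right hfW).smul_left _)
      rw [map_add, map_smul, map_smul]
      exact ((hfa i).1.smul_left _).add_left ((hfa i).2.smul_left _)
    refine ⟨ι Q F.f * W, ⟨?_, fun x => ?_, ⟨Q F.f * d, F.hf.mul hd, ?_⟩, ?_⟩, fun h hO c hfix hf => by
      rw [map_mul, cmap_ι, hWh h hO hfix, hf, map_smul, smul_mul_assoc]⟩
    · simpa using SetLike.mul_mem_graded (ι_mem_evenOdd_one Q F.f) hW0
    · induction x using CliffordAlgebra.induction with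
      | algebraMap r => exact Algebra.commutes r _
      | ι v => exact hv v
      | mul x y hx hy => rw [mul_assoc, hy, ← mul_assoc, hx, mul_assoc]
      | add x y hx hy => rw [add_mul, mul_add, hx, hy]
    · rw [mul_assoc, ← mul_assoc W, ← hfW.eq, mul_assoc (ι Q F.f) W W, hWW, ← mul_assoc, ι_sq_scalar,
        ← map_mul (algebraMap R (CliffordAlgebra Q))]
    · rw [star_mul, hWs, star_ι, mul_neg, smul_mul_assoc, ← hfW.eq, Finset.card_univ, Fintype.card_fin, pow_succ,
        mul_neg_one, neg_smul]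
  intro s
  induction s using Finset.induction with
  | empty => exact ⟨1, SetLike.one_mem_graded _, by simp, fun x _ => Commute.one_right _, ⟨1, isUnit_one, by simp⟩, by simp,
      fun h hO _ => map_one _⟩
  | insert j s hj ih =>
    obtain ⟨W, hW0, hW1, hW2, ⟨d, hd, hWW⟩, hWs, hWh⟩ := ih
    have hWj : Commute (e j) W := by
      refine (Commute.one_left _).sub_left (Commute.smul_left (Commute.mul_left (hW2 _ ?_) (hW2 _ ?_)) 2) <;>
      · intro i hi
        have h : j ≠ i := fun h => hj (h ▸ hi)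
        first | exact ⟨F.P.aa j i h, F.P.ab' j i h⟩ | exact ⟨F.P.ba' j i h, F.P.bb j i h⟩
    refine ⟨W * e j, ?_, fun i hi => ?_, fun x hx => ?_, ⟨d * (1 - 4 * Q (F.P.a j) * Q (F.P.b j)), hd.mul (F.P.disc j), ?_⟩, ?_, fun h hO hfix => by
      rw [map_mul, hWh h hO hfix]
      simp only [e, two_nsmul, map_sub, map_one, map_add, map_mul, cmap_ι, (hfix j).1, (hfix j).2]⟩
    · simpa [e] using SetLike.mul_mem_graded hW0 (sub_mem (SetLike.one_mem_graded _)
        (nsmul_mem (ι_mul_ι_mem_evenOdd_zero Q (F.P.a j) (F.P.b j)) 2))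
    · rcases Finset.mem_insert.1 hi with rfl | hi'
      · have ca : Commute (ι Q (F.P.a i)) W := hW2 _ fun k hk =>
          ⟨F.P.aa i k fun h => hj (h ▸ hk), F.P.ab' i k fun h => hj (h ▸ hk)⟩
        have cb : Commute (ι Q (F.P.b i)) W := hW2 _ fun k hk =>
          ⟨F.P.ba' i k fun h => hj (h ▸ hk), F.P.bb i k fun h => hj (h ▸ hk)⟩
        exact ⟨by rw [← mul_assoc, ca.eq, mul_assoc, (hself i).1, mul_neg, mul_assoc],
          by rw [← mul_assoc, cb.eq, mul_assoc, (hself i).2, mul_neg, mul_assoc]⟩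
      · have h : i ≠ j := fun h => hj (h ▸ hi')
        have ca := hcom j (F.P.a i) (F.P.aa i j h) (F.P.ab' i j h)
        have cb := hcom j (F.P.b i) (F.P.ba' i j h) (F.P.bb i j h)
        exact ⟨by rw [← mul_assoc, (hW1 i hi').1, neg_mul, mul_assoc, ca.eq, mul_assoc],
          by rw [← mul_assoc, (hW1 i hi').2, neg_mul, mul_assoc, cb.eq, mul_assoc]⟩
    · exact (hW2 x fun i hi => hx i (Finset.mem_insert_of_mem hi)).mul_right
        (hcom j x (hx j (Finset.mem_insert_self j s)).1 (hx j (Finset.mem_insert_self j s)).2)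
    · rw [mul_assoc, ← mul_assoc (e j), hWj.eq, mul_assoc W (e j), hsq, ← mul_assoc, hWW,
        ← map_mul (algebraMap R (CliffordAlgebra Q))]
    · rw [star_mul, hWs, hstar, neg_mul, mul_smul_comm, hWj.eq, Finset.card_insert_of_notMem hj, pow_succ, mul_neg_one,
        neg_smul]

theorem Frame.exists_zeta [Module.Free R M] [Module.Finite R M] [Nontrivial R] {m : ℕ} (F : Frame Q m) :
    ∃ ζ, IsZeta Q m ζ := F.exists_zeta_equiv.imp fun _ h => h.1

theorem cmap_injective {g : M ≃ₗ[R] M} (hg : g ∈ QuadGrp.O Q) : Function.Injective (cmap hg) := by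
  have : (cmap (inv_mem hg)).comp (cmap hg) = AlgHom.id R _ := by
    apply CliffordAlgebra.hom_ext
    ext v
    simp only [LinearMap.comp_apply, AlgHom.toLinearMap_apply, AlgHom.comp_apply, cmap_ι, AlgHom.id_apply]
    rw [show g⁻¹ (g v) = v from g.symm_apply_apply v]
  exact fun x y h => (DFunLike.congr_fun this x).symm.trans ((congrArg _ h).trans (DFunLike.congr_fun this y))

/-! ### Determinants, the action on `ζ`, versors -/

section Local

variable [Module.Free R M] [Module.Finite R M] {m : ℕ} {g : M ≃ₗ[R] M}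

/-- The centre in odd degree is spanned by `ζ`. -/
theorem IsZeta.eq_smul_of_central [Nontrivial R] {ζ : CliffordAlgebra Q} (hζ : IsZeta Q m ζ) (F : Frame Q m)
    {y : CliffordAlgebra Q} (hy : y ∈ evenOdd Q 1) (hc : ∀ x ∈ evenOdd Q 0, x * y = y * x) : ∃ t : R, y = t • ζ := by
  obtain ⟨d, hd, hζζ⟩ := hζ.sq
  have h0 : ζ * y ∈ evenOdd Q 0 := by
    simpa [show (1 : ZMod 2) + 1 = 0 from rfl] using SetLike.mul_mem_graded hζ.odd hy
  obtain ⟨r, hr⟩ := F.center_even h0 fun x hx => by rw [← mul_assoc, hζ.central, mul_assoc, hc x hx, mul_assoc]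
  refine ⟨↑hd.unit⁻¹ * r, ?_⟩
  have := congrArg (fun e => ζ * e) hr
  rw [← Algebra.commutes, ← Algebra.smul_def, ← mul_assoc, hζζ, ← Algebra.smul_def] at this
  rw [mul_smul, this, smul_smul, IsUnit.val_inv_mul, one_smul]

theorem IsZeta.mul_mem_even {ζ : CliffordAlgebra Q} (hζ : IsZeta Q m ζ) {y : CliffordAlgebra Q} (hy : y ∈ evenOdd Q 1) :
    ζ * y ∈ evenOdd Q 0 := by
  simpa [show (1 : ZMod 2) + 1 = 0 from rfl] using SetLike.mul_mem_graded hζ.odd hy

/-- Every odd element is `ζ` times an even one. -/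
theorem IsZeta.exists_even_of_odd {ζ : CliffordAlgebra Q} (hζ : IsZeta Q m ζ) {y : CliffordAlgebra Q}
    (hy : y ∈ evenOdd Q 1) : ∃ x ∈ evenOdd Q 0, y = ζ * x := by
  obtain ⟨d, hd, hζζ⟩ := hζ.sq
  refine ⟨(↑hd.unit⁻¹ : R) • (ζ * y), Submodule.smul_mem _ _ (hζ.mul_mem_even hy), ?_⟩
  rw [mul_smul_comm, ← mul_assoc, hζζ, ← Algebra.smul_def, smul_smul, IsUnit.val_inv_mul, one_smul]

theorem Frame.decomp [IsLocalRing R] (F : Frame Q m) (hinf : Infinite (IsLocalRing.ResidueField R))
    (hg : g ∈ QuadGrp.O Q) :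
    ∃ s ∈ reflGroup Q, ∃ c : R, c * c = 1 ∧ LinearMap.det (s * g).toLinearMap = c ∧
      (∀ i, (s * g) (F.P.a i) = F.P.a i ∧ (s * g) (F.P.b i) = F.P.b i) ∧ (s * g) F.f = c • F.f ∧
      ∀ v, (s * g) v = F.P.proj v + (c * F.coF v) • F.f := by
  obtain ⟨s, hs, hfix⟩ := exists_fix_planes hinf F.P hg
  have hO : s * g ∈ QuadGrp.O Q := mul_mem (reflGroup_le_O hs) hg
  set h := s * g with hh
  have hp : F.P.proj (h F.f) = 0 := by
    rw [F.P.proj_apply]
    refine Finset.sum_eq_zero fun i _ => ?_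
    have ha : polar Q (F.P.a i) (h F.f) = 0 := by
      conv_lhs => rw [← show h (F.P.a i) = F.P.a i from (hfix i).1]
      rw [polar_map hO, F.af]
    have hb : polar Q (F.P.b i) (h F.f) = 0 := by
      conv_lhs => rw [← show h (F.P.b i) = F.P.b i from (hfix i).2]
      rw [polar_map hO, F.bf]
    rw [F.P.coA_apply, F.P.coB_apply, ha, hb]
    simp
  set c := F.coF (h F.f) with hc
  have hf : h F.f = c • F.f := by
    conv_lhs => rw [← F.span (h F.f), hp, zero_add, ← hc]
  have hv : ∀ v, h v = F.P.proj v + (c * F.coF v) • F.f := fun v => by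
    conv_lhs => rw [← F.span v, map_add, map_smul, hf, smul_smul, mul_comm]
    congr 1
    rw [F.P.proj_apply, map_sum]
    refine Finset.sum_congr rfl fun i _ => ?_
    rw [map_add, map_smul, map_smul, show h (F.P.a i) = F.P.a i from (hfix i).1,
      show h (F.P.b i) = F.P.b i from (hfix i).2]
  refine ⟨s, hs, c, ?_, ?_, hfix, hf, hv⟩
  · have := (QuadGrp.mem_O Q h).1 hO F.f
    rw [hf, QuadraticMap.map_smul, smul_eq_mul] at this
    exact F.hf.mul_right_cancel (by rw [one_mul, this])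
  · have : h.toLinearMap = LinearMap.transvection ((c - 1) • F.coF) F.f := LinearMap.ext fun v => by
      rw [LinearEquiv.coe_coe, hv, LinearMap.transvection.apply, LinearMap.smul_apply, smul_eq_mul, sub_mul, one_mul, sub_smul]
      conv_rhs => arg 1; rw [← F.span v]
      abel
    rw [this, LinearMap.transvection.det, LinearMap.smul_apply, F.coF_f, smul_eq_mul, mul_one]
    ring

/-- `φ ζ = det · ζ` and, in determinant one, an even intertwiner: the case of an infinite residue field. -/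
theorem Frame.zeta_action_inf [IsLocalRing R] (F : Frame Q m) (hinf : Infinite (IsLocalRing.ResidueField R))
    (hg : g ∈ QuadGrp.O Q) :
    (∃ ζ, IsZeta Q m ζ ∧ cmap hg ζ = LinearMap.det g.toLinearMap • ζ) ∧
    (LinearMap.det g.toLinearMap = 1 → ∃ u : (CliffordAlgebra Q)ˣ, (u : CliffordAlgebra Q) ∈ evenOdd Q 0 ∧
      ∀ v, (u : CliffordAlgebra Q) * ι Q v = ι Q (g v) * u) := by
  obtain ⟨ζ, hζ, hequiv⟩ := F.exists_zeta_equiv
  obtain ⟨s, hs, c, hc, hdc, hfix, hf, hv⟩ := F.decomp hinf hg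
  have hsO := reflGroup_le_O hs
  have hO : s * g ∈ QuadGrp.O Q := mul_mem hsO hg
  obtain ⟨u, hu⟩ := versor_of_mem_reflGroup hs
  have hdet : c = LinearMap.det s.toLinearMap * LinearMap.det g.toLinearMap := by
    rw [← hdc, ← LinearMap.det_comp]; rfl
  refine ⟨⟨ζ, hζ, ?_⟩, fun hd1 => ?_⟩
  · have hsz : cmap hsO ζ = LinearMap.det s.toLinearMap • ζ := by
      rcases hu with ⟨-, huc, hud⟩ | ⟨-, huc, hud⟩
      · refine u.mul_left_inj.1 ?_
        rw [hud, one_smul, cmap_mul_of_even hsO _ huc, hζ.central]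
      · refine u.mul_left_inj.1 ?_
        rw [hud, cmap_mul_of_odd hsO _ huc, involute_eq_of_mem_odd hζ.odd, mul_neg, hζ.central, neg_smul, one_smul,
          neg_mul]
    refine cmap_injective hsO ?_
    rw [map_smul, hsz, smul_smul, ← cmap_comp hsO hg, hequiv _ _ c hfix hf, hdet, mul_comm]
  · rw [hd1, mul_one] at hdet
    rcases hu with ⟨hu0, huc, hud⟩ | ⟨hu1, huc, hud⟩
    · -- `s g = 1`
      refine ⟨u⁻¹, inv_mem_evenOdd u hu0, fun v => ?_⟩
      have h1 : s (g v) = v := by
        change (s * g) v = v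
        rw [hv, hdet, hud, one_mul, F.span]
      have := huc (g v)
      rw [h1] at this
      rw [Units.inv_mul_eq_iff_eq_mul, ← mul_assoc, this, mul_assoc, Units.mul_inv, mul_one]
    · -- `s g` is the reflection in `f`
      obtain ⟨d, hd⟩ : ∃ d : (CliffordAlgebra Q)ˣ, (d : CliffordAlgebra Q) = ι Q F.f :=
        ⟨((Commute.refl (ι Q F.f)).isUnit_mul_iff.1 ((ι_sq_scalar Q F.f).symm ▸ F.hf.map _)).1.unit, rfl⟩
      refine ⟨u⁻¹ * d, ?_, fun v => ?_⟩
      · rw [Units.val_mul, hd]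
        simpa [show (1 : ZMod 2) + 1 = 0 from rfl] using
          SetLike.mul_mem_graded (inv_mem_evenOdd u hu1) (ι_mem_evenOdd_one Q F.f)
      · have hB : polar Q F.f v = 2 * Q F.f * F.coF v := by
          conv_lhs => rw [← F.span v]
          rw [polar_add_right, polar_smul_right, polar_self, F.P.proj_apply, ← polarBilin_apply_apply, map_sum,
            Finset.sum_eq_zero fun i _ => by simp [polar_comm _ F.f, F.af, F.bf], zero_add, nsmul_eq_mul, smul_eq_mul,
            Nat.cast_ofNat]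
          ring
        have h1 : ι Q F.f * ι Q v = -(ι Q ((s * g) v) * ι Q F.f) := by
          have hsw : ι Q F.f * ι Q v = algebraMap R _ (2 * Q F.f * F.coF v) - ι Q v * ι Q F.f := by
            rw [eq_sub_iff_add_eq, ι_mul_ι_add_swap, hB]
          rw [hsw, hv, hdet, hud]
          conv_lhs => arg 2; rw [← F.span v]
          simp only [map_add, map_smul, add_mul, smul_mul_assoc, ι_sq_scalar, Algebra.algebraMap_eq_smul_one]
          module
        have h2 : (u : CliffordAlgebra Q) * ι Q (g v) = -(ι Q ((s * g) v) * u) := huc (g v)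
        rw [Units.val_mul, hd, mul_assoc, h1, Units.inv_mul_eq_iff_eq_mul, ← mul_assoc (u : CliffordAlgebra Q), h2,
          neg_mul, mul_assoc, Units.mul_inv_cancel_left]

end Local

end Groth.Misc12.Cliff
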