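import Groth.Agent.Misc12.Cliff.Local
import Groth.Agent.Misc12.Quad.Lift
import Mathlib.LinearAlgebra.Matrix.NonsingularInverse
import Mathlib.RingTheory.LocalRing.ResidueField.Basic

/-!
Semiregular forms of odd rank over local rings: orthogonal frames of planes and an anisotropic line, and the odd central
element of the Clifford algebra.
-/

set_option autoImplicit false
set_option linter.unusedSectionVars false

noncomputable section

open QuadraticMap CliffordAlgebra
open scoped TensorProduct Matrix

universe u v w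

namespace Groth.Misc12.Cliff

variable {R : Type u} [CommRing R] {M : Type v} [AddCommGroup M] [Module R M] {Q : QuadraticForm R M}

/-! ### Semiregularity -/

theorem isSemiregular_iff_hd [Module.Free R M] {n : ℕ} (b : Module.Basis (Fin n) R M) (B : LinearMap.BilinForm R M)
    (hB : B.toQuadraticMap = Q) :
    QuadGrp.IsSemiregular b (LinearEquiv.refl R R) Q ↔ IsUnit (Quad.hd (LinearMap.BilinForm.toMatrix b B)) := by
  rw [← Quad.halfDisc_eq_hd b Q B hB]
  rfl

theorem isSemiregular_QA [Module.Free R M] {n : ℕ} {b : Module.Basis (Fin n) R M}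
    (hQ : QuadGrp.IsSemiregular b (LinearEquiv.refl R R) Q) (A : Type w) [CommRing A] [Algebra R A] :
    QuadGrp.IsSemiregular (Algebra.TensorProduct.basis A b) (LinearEquiv.refl A A) (QA Q A) := by
  set B₀ : LinearMap.BilinForm R M := QuadGrp.bilinLift Q
  let B : LinearMap.BilinForm A (A ⊗[R] M) :=
    (LinearMap.BilinMap.baseChange A B₀).compr₂ (TensorProduct.AlgebraTensorModule.rid R A A).toLinearMap
  have hB : B.toQuadraticMap = QA Q A := QuadraticMap.ext fun x => rfl
  rw [isSemiregular_iff_hd _ B hB]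
  have hm : LinearMap.BilinForm.toMatrix (Algebra.TensorProduct.basis A b) B
      = (LinearMap.BilinForm.toMatrix b B₀).map (algebraMap R A) := by
    ext i j
    rw [LinearMap.BilinForm.toMatrix_apply, Matrix.map_apply, LinearMap.BilinForm.toMatrix_apply,
      Algebra.TensorProduct.basis_apply, Algebra.TensorProduct.basis_apply]
    change (TensorProduct.AlgebraTensorModule.rid R A A)
      ((LinearMap.BilinMap.baseChange A B₀) ((1 : A) ⊗ₜ[R] b i) ((1 : A) ⊗ₜ[R] b j)) = _
    rw [LinearMap.BilinMap.baseChange_tmul, one_mul, TensorProduct.AlgebraTensorModule.rid_tmul,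
      ← Algebra.algebraMap_eq_smul_one]
  rw [hm, Quad.hd_map]
  exact ((isSemiregular_iff_hd b B₀ (QuadGrp.bilinLift_spec Q)).1 hQ).map _

/-! ### The radical modulo the maximal ideal -/

section Local

variable [IsLocalRing R] [Module.Free R M] [Module.Finite R M]

open IsLocalRing

variable {n : ℕ} {b : Module.Basis (Fin n) R M}

theorem residue_kernel (B : LinearMap.BilinForm R M) (hB : B.toQuadraticMap = Q) {x : M}
    (hx : ∀ y, polar Q x y ∈ maximalIdeal R) :
    ((LinearMap.BilinForm.toMatrix b B).map (residue R) + ((LinearMap.BilinForm.toMatrix b B).map (residue R))ᵀ) *ᵥ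
      (fun i => residue R (b.repr x i)) = 0 := by
  funext i
  rw [Pi.zero_apply, ← (residue_eq_zero_iff (R := R) _).2 (hx (b i))]
  rw [show polar Q x (b i) = ∑ j, (B (b i) (b j) + B (b j) (b i)) * b.repr x j by
    conv_lhs => rw [← b.sum_repr x]
    rw [← polarBilin_apply_apply, map_sum, LinearMap.sum_apply]
    refine Finset.sum_congr rfl fun j _ => ?_
    rw [map_smul, LinearMap.smul_apply, polarBilin_apply_apply, show (polar Q (b j) (b i)) = B (b j) (b i) + B (b i) (b j) by
      rw [← hB, LinearMap.BilinMap.polar_toQuadraticMap], smul_eq_mul]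
    ring]
  simp [Matrix.mulVec, dotProduct, LinearMap.BilinForm.toMatrix_apply, map_sum]

theorem coord_mem_of_mem_smul_top {x : M} (hx : x ∈ maximalIdeal R • (⊤ : Submodule R M)) (i : Fin n) :
    b.repr x i ∈ maximalIdeal R := by
  refine Submodule.smul_induction_on hx (fun r hr y _ => ?_) fun y z hy hz => ?_
  · rw [map_smul, Finsupp.smul_apply, smul_eq_mul]
    exact Ideal.mul_mem_right _ _ hr
  · rw [map_add, Finsupp.add_apply]
    exact add_mem hy hz

theorem mem_smul_top_of_coord_mem {x : M} (hx : ∀ i, b.repr x i ∈ maximalIdeal R) :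
    x ∈ maximalIdeal R • (⊤ : Submodule R M) := by
  rw [← b.sum_repr x]
  exact sum_mem fun i _ => Submodule.smul_mem_smul (hx i) Submodule.mem_top

theorem isUnit_of_radical (hn : Odd n) (hQ : QuadGrp.IsSemiregular b (LinearEquiv.refl R R) Q) {x : M}
    (hx : x ∉ maximalIdeal R • (⊤ : Submodule R M)) (hp : ∀ y, polar Q x y ∈ maximalIdeal R) : IsUnit (Q x) := by
  set B : LinearMap.BilinForm R M := QuadGrp.bilinLift Q
  have hB : B.toQuadraticMap = Q := QuadGrp.bilinLift_spec Q
  set γ := (LinearMap.BilinForm.toMatrix b B).map (residue R) with hγdef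
  have hγ : Quad.hd γ ≠ 0 := by
    rw [hγdef, Quad.hd_map]
    exact (residue_ne_zero_iff_isUnit _).2 ((isSemiregular_iff_hd b B hB).1 hQ)
  set r : Fin n → ResidueField R := fun i => residue R (b.repr x i) with hrdef
  obtain ⟨i, hi⟩ : ∃ i, r i ≠ 0 := by
    by_contra h
    push Not at h
    exact hx (mem_smul_top_of_coord_mem (b := b) fun i => (residue_eq_zero_iff _).1 (h i))
  have hk : (γ + γᵀ) *ᵥ r = 0 := residue_kernel B hB hp
  refine (residue_ne_zero_iff_isUnit _).1 fun h0 => ?_
  refine Quad.ker_value_ne hn hγ (r := (r i)⁻¹ • r) (by rw [Matrix.mulVec_smul, hk, smul_zero]) (i := i)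
    (inv_mul_cancel₀ hi) ?_
  have : r ⬝ᵥ γ *ᵥ r = residue R (Q x) := by
    rw [← hB, LinearMap.BilinMap.toQuadraticMap_apply, LinearMap.BilinForm.apply_eq_dotProduct_toMatrix_mulVec b B x x]
    simp [hγdef, hrdef, dotProduct, Matrix.mulVec, map_sum, Module.Basis.equivFun_apply]
  rw [Matrix.mulVec_smul, dotProduct_smul, smul_dotProduct, this, h0, smul_zero, smul_zero]

theorem radical_unique (hn : Odd n) (hQ : QuadGrp.IsSemiregular b (LinearEquiv.refl R R) Q) {x y : M}
    (hx : x ∉ maximalIdeal R • (⊤ : Submodule R M)) (hpx : ∀ z, polar Q x z ∈ maximalIdeal R)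
    (hpy : ∀ z, polar Q y z ∈ maximalIdeal R) : ∃ t : R, y - t • x ∈ maximalIdeal R • (⊤ : Submodule R M) := by
  set B : LinearMap.BilinForm R M := QuadGrp.bilinLift Q
  have hB : B.toQuadraticMap = Q := QuadGrp.bilinLift_spec Q
  set γ := (LinearMap.BilinForm.toMatrix b B).map (residue R) with hγdef
  have hγ : Quad.hd γ ≠ 0 := by
    rw [hγdef, Quad.hd_map]
    exact (residue_ne_zero_iff_isUnit _).2 ((isSemiregular_iff_hd b B hB).1 hQ)
  obtain ⟨i, hi⟩ : ∃ i, b.repr x i ∉ maximalIdeal R := by
    by_contra h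
    push Not at h
    exact hx (mem_smul_top_of_coord_mem (b := b) h)
  have hu := notMem_maximalIdeal.1 hi
  by_cases h2 : (2 : ResidueField R) = 0
  · refine ⟨b.repr y i * ↑hu.unit⁻¹, mem_smul_top_of_coord_mem (b := b) fun j => (residue_eq_zero_iff _).1 ?_⟩
    have hr1 : ∀ z, polar Q ((↑hu.unit⁻¹ : R) • x) z ∈ maximalIdeal R := fun z => by
      rw [polar_smul_left, smul_eq_mul]; exact Ideal.mul_mem_left _ _ (hpx z)
    have h := congrFun (Quad.ker_unique hn h2 hγ (residue_kernel (b := b) B hB hr1) (residue_kernel (b := b) B hB hpy)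
      (i := i) (by simp [← map_mul])) j
    rw [map_sub, map_smul, Finsupp.sub_apply, Finsupp.smul_apply, map_sub, sub_eq_zero]
    simpa [map_mul, mul_assoc] using h
  · exfalso
    have hdet : (γ + γᵀ).det ≠ 0 := by rw [← Quad.two_mul_hd hn]; exact mul_ne_zero h2 hγ
    have := congrFun (Matrix.eq_zero_of_mulVec_eq_zero hdet (residue_kernel (b := b) B hB hpx)) i
    exact (residue_ne_zero_iff_isUnit _).2 hu this

/-- A form semiregular of odd rank with a vector outside `m M` in the image of `φ` takes a unit value there. -/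
theorem exists_aniso_odd (hn : Odd n) (hQ : QuadGrp.IsSemiregular b (LinearEquiv.refl R R) Q) {s : ℕ}
    (hs : s < Module.finrank R M) (w : Fin s → M) (φ : M →ₗ[R] M) (hφ : ∀ v, v - φ v ∈ Submodule.span R (Set.range w))
    (hφp : ∀ v u, polar Q (φ v) (φ u) = polar Q (φ v) u) : ∃ v, IsUnit (Q (φ v)) := by
  obtain ⟨v, hv⟩ := exists_of_res hs w φ hφ
  by_cases h : ∃ y, IsUnit (polar Q (φ v) y)
  · obtain ⟨y, hy⟩ := h
    rw [← hφp] at hy
    rcases exists_isUnit_of_isUnit_polar hy with h | h | h
    · exact ⟨v, h⟩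
    · exact ⟨y, h⟩
    · exact ⟨v + y, by rwa [map_add]⟩
  · push Not at h
    exact ⟨v, isUnit_of_radical hn hQ hv fun y => (mem_maximalIdeal _).2 (h y)⟩

theorem Planes.exists_succ_odd {m k : ℕ} {b : Module.Basis (Fin (2 * m + 1)) R M}
    (hQ : QuadGrp.IsSemiregular b (LinearEquiv.refl R R) Q) (hk : k < m) (P : Planes Q k) :
    Nonempty (Planes Q (k + 1)) := by
  classical
  have hn : Odd (2 * m + 1) := odd_two_mul_add_one m
  have hM : Module.finrank R M = 2 * m + 1 := by rw [Module.finrank_eq_card_basis b, Fintype.card_fin]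
  let w : Fin (k + k) → M := Fin.append P.a P.b
  have hproj : ∀ v, P.proj v ∈ Submodule.span R (Set.range w) := fun v => by
    rw [P.proj_apply]
    refine sum_mem fun i _ => add_mem (Submodule.smul_mem _ _ (Submodule.subset_span ⟨Fin.castAdd k i, ?_⟩))
      (Submodule.smul_mem _ _ (Submodule.subset_span ⟨Fin.natAdd k i, ?_⟩))
    · simp only [w, Fin.append_left]
    · simp only [w, Fin.append_right]
  have hres : ∀ v u, polar Q (P.res v) (P.res u) = polar Q (P.res v) u := fun v u =>
    P.polar_res _ _ (fun i => P.polar_a_res i v) fun i => P.polar_b_res i v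
  -- an anisotropic vector with a partner
  obtain ⟨v, hv, hpart⟩ : ∃ v, IsUnit (Q (P.res v)) ∧ ∃ y, IsUnit (polar Q (P.res v) y) := by
    obtain ⟨v₀, y₀, hy₀⟩ : ∃ v₀ y₀, IsUnit (polar Q (P.res v₀) y₀) := by
      by_contra hcon
      push Not at hcon
      have hrad : ∀ v z, polar Q (P.res v) z ∈ maximalIdeal R := fun v z => (mem_maximalIdeal _).2 (hcon v z)
      obtain ⟨v₁, hv₁⟩ := exists_of_res (show k + k < Module.finrank R M by omega) w P.res
        (fun v => by rw [P.res_apply, sub_sub_cancel]; exact hproj v)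
      choose t ht using fun v => radical_unique hn hQ hv₁ (hrad v₁) (hrad v)
      have hle : (⊤ : Submodule R M) ≤ Submodule.span R (Set.range (Fin.snoc w (P.res v₁) : Fin (k + k + 1) → M)) := by
        refine Submodule.le_of_le_smul_of_le_jacobson_bot Module.Finite.fg_top (maximalIdeal_le_jacobson _) fun v _ => ?_
        rw [show v = (P.proj v + t v • P.res v₁) + (P.res v - t v • P.res v₁) by rw [P.res_apply v]; abel]
        refine Submodule.add_mem_sup (add_mem (Submodule.span_mono ?_ (hproj v))
          (Submodule.smul_mem _ _ (Submodule.subset_span ⟨Fin.last _, by simp⟩))) (ht v)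
        rintro _ ⟨i, rfl⟩
        exact ⟨i.castSucc, by simp⟩
      have := finrank_range_le_card (R := R) (Fin.snoc w (P.res v₁) : Fin (k + k + 1) → M)
      rw [Set.finrank, top_le_iff.1 hle, finrank_top, Fintype.card_fin] at this
      omega
    rw [← hres] at hy₀
    by_cases h1 : IsUnit (Q (P.res v₀))
    · exact ⟨v₀, h1, y₀, by rwa [← hres]⟩
    by_cases h2 : IsUnit (Q (P.res y₀))
    · exact ⟨y₀, h2, P.res v₀, by rwa [polar_comm]⟩
    rcases exists_isUnit_of_isUnit_polar hy₀ with h | h | h
    · exact absurd h h1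
    · exact absurd h h2
    · refine ⟨v₀ + y₀, by rwa [map_add], P.res y₀, ?_⟩
      rw [map_add, polar_add_left, polar_self, nsmul_eq_mul, Nat.cast_ofNat]
      refine notMem_maximalIdeal.1 fun hm => notMem_maximalIdeal.2 hy₀ ?_
      simpa using sub_mem hm (Ideal.mul_mem_left (maximalIdeal R) 2 ((mem_maximalIdeal _).2 h2))
  obtain ⟨y, hy⟩ := hpart
  set a := P.res v with ha
  have ha0 : ∀ i, polar Q (P.a i) a = 0 := fun i => P.polar_a_res i v
  have hb0 : ∀ i, polar Q (P.b i) a = 0 := fun i => P.polar_b_res i v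
  set b₁ := P.res ((↑hy.unit⁻¹ : R) • y) with hb₁
  have hab₁ : polar Q a b₁ = 1 := by
    rw [hb₁, P.polar_res _ _ ha0 hb0, polar_smul_right, smul_eq_mul, IsUnit.val_inv_mul]
  have ext : ∀ b' : M, (∀ i, polar Q (P.a i) b' = 0) → (∀ i, polar Q (P.b i) b' = 0) → polar Q a b' = 1 →
      IsUnit (1 - 4 * Q a * Q b') → Nonempty (Planes Q (k + 1)) := fun b' hab hbb h1 hd => ⟨P.snoc a b' ha0 hb0 hab hbb h1 hd hv⟩
  by_cases hd : IsUnit (1 - 4 * Q a * Q b₁)
  · exact ext b₁ (fun i => P.polar_a_res i _) (fun i => P.polar_b_res i _) hab₁ hd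
  have h2 : IsUnit (2 : R) := by
    by_contra h
    rw [← mem_nonunits_iff, ← mem_maximalIdeal] at h
    apply hd
    refine notMem_maximalIdeal.1 fun hm => (maximalIdeal R).ne_top_iff_one.1 (Ideal.IsPrime.ne_top inferInstance) ?_
    have := add_mem hm (Ideal.mul_mem_right (2 * Q a * Q b₁) _ h)
    rwa [show (1 : R) - 4 * Q a * Q b₁ + 2 * (2 * Q a * Q b₁) = 1 by ring] at this
  set t : R := ↑(h2.mul hv).unit⁻¹ with ht
  have ht1 : t * (2 * Q a) = 1 := (h2.mul hv).val_inv_mul
  let φ : M →ₗ[R] M := P.res - (t • (Q.polarBilin a)).smulRight a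
  have hφ : ∀ v, φ v = P.res v - (t * polar Q a v) • a := fun v => rfl
  have hφa : ∀ v, polar Q a (φ v) = 0 := by
    intro v
    rw [hφ, sub_eq_add_neg, ← neg_smul, polar_add_right, P.polar_res _ _ ha0 hb0, polar_smul_right, polar_self, smul_eq_mul,
      nsmul_eq_mul, Nat.cast_ofNat]
    linear_combination (-polar Q a v) * ht1
  have hφi : ∀ i v, polar Q (P.a i) (φ v) = 0 ∧ polar Q (P.b i) (φ v) = 0 := by
    intro i v
    constructor <;>
      rw [hφ, sub_eq_add_neg, ← neg_smul, polar_add_right, polar_smul_right] <;>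
      simp [P.polar_a_res, P.polar_b_res, ha0, hb0]
  obtain ⟨v', hv'⟩ := exists_aniso_odd hn hQ (show k + k + 1 < Module.finrank R M by omega) (Fin.snoc w a) φ (fun v => by
      rw [hφ, P.res_apply, show v - (v - P.proj v - (t * polar Q a v) • a) = P.proj v + (t * polar Q a v) • a by abel]
      refine add_mem (Submodule.span_mono ?_ (hproj v)) (Submodule.smul_mem _ _ (Submodule.subset_span ⟨Fin.last _, by simp⟩))
      rintro _ ⟨i, rfl⟩
      exact ⟨i.castSucc, by simp⟩)
    (fun v u => by
      rw [hφ u, sub_eq_add_neg, ← neg_smul, polar_add_right, polar_smul_right, polar_comm _ (φ v) a, hφa, smul_zero,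
        add_zero, P.polar_res _ _ (fun i => (hφi i v).1) (fun i => (hφi i v).2)])
  refine ext (t • a + φ v') (fun i => ?_) (fun i => ?_) ?_ ?_
  · rw [polar_add_right, polar_smul_right, ha0, smul_zero, zero_add, (hφi i v').1]
  · rw [polar_add_right, polar_smul_right, hb0, smul_zero, zero_add, (hφi i v').2]
  · rw [polar_add_right, polar_smul_right, polar_self, hφa, add_zero, smul_eq_mul, nsmul_eq_mul, Nat.cast_ofNat]
    exact ht1
  · have : (1 : R) - 4 * Q a * Q (t • a + φ v') = -((2 * 2) * (Q a * Q (φ v'))) := by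
      rw [QuadraticMap.map_add (⇑Q), QuadraticMap.map_smul, polar_smul_left, hφa, smul_zero, add_zero, smul_eq_mul]
      linear_combination (-(t * (2 * Q a)) - 1) * ht1
    rw [this]
    exact ((h2.mul h2).mul (hv.mul hv')).neg

end Local

/-! ### Frames -/

/-- Planes and an anisotropic line orthogonal to them, spanning the module. -/
structure Frame (Q : QuadraticForm R M) (m : ℕ) where
  P : Planes Q m
  f : M
  coF : Module.Dual R M
  af : ∀ i, polar Q (P.a i) f = 0
  bf : ∀ i, polar Q (P.b i) f = 0
  hf : IsUnit (Q f)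
  coF_f : coF f = 1
  span : ∀ v, P.proj v + coF v • f = v

theorem Planes.proj_a {k : ℕ} (P : Planes Q k) (i : Fin k) : P.proj (P.a i) = P.a i := by
  classical
  rw [P.proj_apply, Finset.sum_eq_single i]
  · have h1 : P.coA i (P.a i) = 1 := by
      rw [P.coA_apply, P.ba, polar_self, nsmul_eq_mul, Nat.cast_ofNat]
      linear_combination (norm := ring) P.c_mul i
    have h2 : P.coB i (P.a i) = 0 := by
      rw [P.coB_apply, P.ba, polar_self, nsmul_eq_mul, Nat.cast_ofNat]
      ring
    rw [h1, h2, one_smul, zero_smul, add_zero]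
  · intro j _ h
    rw [P.coA_apply, P.coB_apply, P.aa j i h, P.ba' j i h]
    simp
  · simp

theorem Planes.proj_b {k : ℕ} (P : Planes Q k) (i : Fin k) : P.proj (P.b i) = P.b i := by
  classical
  rw [P.proj_apply, Finset.sum_eq_single i]
  · have h1 : P.coA i (P.b i) = 0 := by
      rw [P.coA_apply, P.ab, polar_self, nsmul_eq_mul, Nat.cast_ofNat]
      ring
    have h2 : P.coB i (P.b i) = 1 := by
      rw [P.coB_apply, P.ab, polar_self, nsmul_eq_mul, Nat.cast_ofNat]
      linear_combination (norm := ring) P.c_mul i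
    rw [h1, h2, one_smul, zero_smul, zero_add]
  · intro j _ h
    rw [P.coA_apply, P.coB_apply, P.ab' j i h, P.bb j i h]
    simp
  · simp

theorem exists_frame [IsLocalRing R] [Module.Free R M] [Module.Finite R M] {m : ℕ}
    {b : Module.Basis (Fin (2 * m + 1)) R M} (hQ : QuadGrp.IsSemiregular b (LinearEquiv.refl R R) Q) :
    Nonempty (Frame Q m) := by
  classical
  open IsLocalRing in
  have hk : ∀ k ≤ m, Nonempty (Planes Q k) := by
    intro k hk
    induction k with
    | zero => exact ⟨⟨Fin.elim0, Fin.elim0, fun i => i.elim0, fun i => i.elim0, fun i => i.elim0, fun i => i.elim0,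
        fun i => i.elim0, fun i => i.elim0⟩⟩
    | succ k ih =>
      obtain ⟨P⟩ := ih (by omega)
      exact P.exists_succ_odd hQ (by omega)
  obtain ⟨P⟩ := hk m le_rfl
  let w : Fin (m + m) → M := Fin.append P.a P.b
  have hproj : ∀ v, P.proj v ∈ Submodule.span R (Set.range w) := fun v => by
    rw [P.proj_apply]
    refine sum_mem fun i _ => add_mem (Submodule.smul_mem _ _ (Submodule.subset_span ⟨Fin.castAdd m i, ?_⟩))
      (Submodule.smul_mem _ _ (Submodule.subset_span ⟨Fin.natAdd m i, ?_⟩))
    · simp only [w, Fin.append_left]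
    · simp only [w, Fin.append_right]
  have hM : Module.finrank R M = 2 * m + 1 := by rw [Module.finrank_eq_card_basis b, Fintype.card_fin]
  obtain ⟨v, hv⟩ := exists_aniso_odd (odd_two_mul_add_one m) hQ (show m + m < Module.finrank R M by omega) w P.res
    (fun v => by rw [P.res_apply, sub_sub_cancel]; exact hproj v)
    (fun v u => P.polar_res _ _ (fun i => P.polar_a_res i v) fun i => P.polar_b_res i v)
  set f := P.res v
  have hpf : P.proj f = 0 := by
    rw [P.proj_apply]
    refine Finset.sum_eq_zero fun i _ => ?_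
    rw [P.coA_apply, P.coB_apply, P.polar_a_res, P.polar_b_res]
    simp
  -- the basis
  let L : (Fin (m + m + 1) → R) →ₗ[R] M := Fintype.linearCombination R (Fin.snoc w f : Fin (m + m + 1) → M)
  have hker : ∀ c, L c ∈ IsLocalRing.maximalIdeal R • (⊤ : Submodule R M) → ∀ i, c i ∈ IsLocalRing.maximalIdeal R := by
    intro c hc
    set x := L c with hx
    have hexp : x = (∑ i, (c (Fin.castSucc (Fin.castAdd m i)) • P.a i + c (Fin.castSucc (Fin.natAdd m i)) • P.b i)) +
        c (Fin.last _) • f := by
      simp only [hx, L, Fintype.linearCombination_apply, Fin.sum_univ_castSucc, Fin.sum_univ_add, Fin.snoc_castSucc,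
        Fin.snoc_last, w, Fin.append_left, Fin.append_right, Finset.sum_add_distrib]
    have hpx : P.proj x = ∑ i, (c (Fin.castSucc (Fin.castAdd m i)) • P.a i + c (Fin.castSucc (Fin.natAdd m i)) • P.b i) := by
      rw [hexp, map_add, map_smul, hpf, smul_zero, add_zero, map_sum]
      simp only [map_add, map_smul, P.proj_a, P.proj_b]
    have hmem : ∀ φ : Module.Dual R M, φ x ∈ IsLocalRing.maximalIdeal R := fun φ => by
      refine Submodule.smul_induction_on hc (fun r hr y _ => ?_) fun y z hy hz => ?_
      · rw [map_smul, smul_eq_mul]; exact Ideal.mul_mem_right _ _ hr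
      · rw [map_add]; exact add_mem hy hz
    have ha : ∀ i, c (Fin.castSucc (Fin.castAdd m i)) ∈ IsLocalRing.maximalIdeal R := fun i => by
      have h := hmem (P.coA i ∘ₗ P.proj)
      rw [LinearMap.comp_apply, hpx, map_sum, Finset.sum_eq_single i] at h
      · have h1 : P.coA i (P.a i) = 1 := by
          rw [P.coA_apply, P.ba, polar_self, nsmul_eq_mul, Nat.cast_ofNat]
          linear_combination (norm := ring) P.c_mul i
        have h2 : P.coA i (P.b i) = 0 := by
          rw [P.coA_apply, P.ab, polar_self, nsmul_eq_mul, Nat.cast_ofNat]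
          ring
        rwa [map_add, map_smul, map_smul, h1, h2, smul_zero, add_zero, smul_eq_mul, mul_one] at h
      · intro j _ hj
        simp only [map_add, map_smul, P.coA_apply]
        simp [polar_add_right, polar_smul_right, P.ba' i j hj.symm, P.aa i j hj.symm, P.ab' i j hj.symm, P.bb i j hj.symm]
      · simp
    have hb : ∀ i, c (Fin.castSucc (Fin.natAdd m i)) ∈ IsLocalRing.maximalIdeal R := fun i => by
      have h := hmem (P.coB i ∘ₗ P.proj)
      rw [LinearMap.comp_apply, hpx, map_sum, Finset.sum_eq_single i] at h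
      · have h1 : P.coB i (P.a i) = 0 := by
          rw [P.coB_apply, P.ba, polar_self, nsmul_eq_mul, Nat.cast_ofNat]
          ring
        have h2 : P.coB i (P.b i) = 1 := by
          rw [P.coB_apply, P.ab, polar_self, nsmul_eq_mul, Nat.cast_ofNat]
          linear_combination (norm := ring) P.c_mul i
        rwa [map_add, map_smul, map_smul, h1, h2, smul_zero, zero_add, smul_eq_mul, mul_one] at h
      · intro j _ hj
        simp only [map_add, map_smul, P.coB_apply]
        simp [polar_add_right, polar_smul_right, P.ba' i j hj.symm, P.aa i j hj.symm, P.ab' i j hj.symm, P.bb i j hj.symm]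
      · simp
    have hlast : c (Fin.last _) ∈ IsLocalRing.maximalIdeal R := by
      by_contra h
      have hf' : Q f ∈ IsLocalRing.maximalIdeal R := by
        have hu := IsLocalRing.notMem_maximalIdeal.1 h
        have : f ∈ IsLocalRing.maximalIdeal R • (⊤ : Submodule R M) := by
          have h3 : c (Fin.last _) • f ∈ IsLocalRing.maximalIdeal R • (⊤ : Submodule R M) := by
            rw [show c (Fin.last _) • f = x - P.proj x by rw [hpx, hexp, add_sub_cancel_left]]
            refine sub_mem hc ?_
            rw [hpx]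
            exact sum_mem fun i _ => add_mem (Submodule.smul_mem_smul (ha i) Submodule.mem_top)
              (Submodule.smul_mem_smul (hb i) Submodule.mem_top)
          have := Submodule.smul_mem _ (↑hu.unit⁻¹ : R) h3
          rwa [smul_smul, IsUnit.val_inv_mul, one_smul] at this
        suffices H : Q f ∈ IsLocalRing.maximalIdeal R ∧ ∀ y, polar Q f y ∈ IsLocalRing.maximalIdeal R from H.1
        refine Submodule.smul_induction_on this (fun r hr x _ => ⟨?_, fun y => ?_⟩) fun x y hx hy => ⟨?_, fun z => ?_⟩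
        · rw [QuadraticMap.map_smul, smul_eq_mul, mul_assoc]
          exact Ideal.mul_mem_right _ _ hr
        · rw [polar_smul_left, smul_eq_mul]
          exact Ideal.mul_mem_right _ _ hr
        · rw [QuadraticMap.map_add (⇑Q)]
          exact add_mem (add_mem hx.1 hy.1) (hx.2 y)
        · rw [polar_add_left]
          exact add_mem (hx.2 z) (hy.2 z)
      exact (IsLocalRing.mem_maximalIdeal _).1 hf' hv
    intro i
    induction i using Fin.lastCases with
    | last => exact hlast
    | cast i =>
      induction i using Fin.addCases with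
      | left i => exact ha i
      | right i => exact hb i
  let e : (Fin (m + m + 1) → R) ≃ₗ[R] M :=
    (LinearEquiv.funCongrLeft R R (finCongr (show 2 * m + 1 = m + m + 1 by omega))).trans b.equivFun.symm
  let T := e.symm.toLinearMap ∘ₗ L
  have hT : Function.Bijective T := by
    have hdet : IsUnit (LinearMap.toMatrix' T).det := by
      refine (IsLocalRing.residue_ne_zero_iff_isUnit _).1 fun h0 => ?_
      rw [RingHom.map_det] at h0
      obtain ⟨d, hd0, hd⟩ := Matrix.exists_mulVec_eq_zero_iff.2 h0
      choose c hc using fun i => IsLocalRing.residue_surjective (R := R) (d i)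
      refine hd0 (funext fun i => ?_)
      rw [Pi.zero_apply, ← hc, IsLocalRing.residue_eq_zero_iff]
      refine hker c ?_ i
      have hTc : ∀ i, T c i ∈ IsLocalRing.maximalIdeal R := fun i => by
        rw [← IsLocalRing.residue_eq_zero_iff, ← LinearMap.toMatrix'_mulVec]
        refine Eq.trans ?_ (congrFun hd i)
        simp [Matrix.mulVec, dotProduct, map_sum, hc]
      rw [show L c = e (T c) by simp [T]]
      rw [← Finset.univ_sum_single (T c), map_sum]
      refine sum_mem fun i _ => ?_
      rw [show Pi.single i (T c i) = T c i • (Pi.single i 1 : Fin (m + m + 1) → R) by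
        ext j; simp [Pi.single_apply], map_smul]
      exact Submodule.smul_mem_smul (hTc i) Submodule.mem_top
    have := (LinearMap.equivOfIsUnitDet (f := T) (by rwa [← LinearMap.det_toMatrix'])).bijective
    rwa [show ⇑(LinearMap.equivOfIsUnitDet (f := T) (by rwa [← LinearMap.det_toMatrix'])) = ⇑T from
      funext (LinearMap.equivOfIsUnitDet_apply _)] at this
  have hL : Function.Bijective L := by
    have : ⇑L = ⇑e ∘ ⇑T := funext fun c => by simp [T]
    rw [this]
    exact e.bijective.comp hT
  let eL := LinearEquiv.ofBijective L hL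
  let coF : Module.Dual R M := (LinearMap.proj (Fin.last (m + m))) ∘ₗ eL.symm.toLinearMap
  have hcoF : ∀ c, coF (L c) = c (Fin.last _) := fun c => congrFun (eL.symm_apply_apply c) _
  refine ⟨⟨P, f, coF, fun i => P.polar_a_res i v, fun i => P.polar_b_res i v, hv, ?_, fun x => ?_⟩⟩
  · rw [show f = L (Pi.single (Fin.last _) 1) by
      simp [L, Fintype.linearCombination_apply, Pi.single_apply, ite_smul], hcoF, Pi.single_eq_same]
  · obtain ⟨c, rfl⟩ := hL.2 x
    rw [hcoF]
    simp only [L, Fintype.linearCombination_apply, Fin.sum_univ_castSucc, Fin.sum_univ_add, Fin.snoc_castSucc,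
      Fin.snoc_last, w, Fin.append_left, Fin.append_right, map_add, map_sum, map_smul, P.proj_a, P.proj_b, hpf, smul_zero,
      add_zero]

/-- Base change of a frame. -/
def Frame.bc [Module.Free R M] (A : Type w) [CommRing A] [Algebra R A] {m : ℕ} (F : Frame Q m) : Frame (QA Q A) m where
  P := F.P.bc A
  f := (1 : A) ⊗ₜ[R] F.f
  coF := Module.Dual.baseChange A F.coF
  af i := by
    change polar (QA Q A) ((1 : A) ⊗ₜ[R] F.P.a i) _ = 0
    rw [polar_QA, F.af, map_zero]
  bf i := by
    change polar (QA Q A) ((1 : A) ⊗ₜ[R] F.P.b i) _ = 0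
    rw [polar_QA, F.bf, map_zero]
  hf := by rw [QA_one_tmul]; exact F.hf.map _
  coF_f := by simp [F.coF_f]
  span x := by
    induction x using TensorProduct.induction_on with
    | zero => simp
    | tmul a v =>
      have hc : ∀ i, (F.P.bc A).c i = algebraMap R A (F.P.c i) := fun i => by
        refine ((F.P.bc A).disc i).mul_right_cancel ?_
        rw [Planes.c_mul]
        change (1 : A) = _ * (1 - 4 * QA Q A ((1 : A) ⊗ₜ[R] F.P.a i) * QA Q A ((1 : A) ⊗ₜ[R] F.P.b i))
        rw [QA_one_tmul, QA_one_tmul, ← map_ofNat (algebraMap R A) 4, ← map_mul, ← map_mul,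
          ← map_one (algebraMap R A), ← map_sub, ← map_mul, Planes.c_mul]
      have hp : (F.P.bc A).proj ((1 : A) ⊗ₜ[R] v) = (1 : A) ⊗ₜ[R] F.P.proj v := by
        rw [Planes.proj_apply, Planes.proj_apply, TensorProduct.tmul_sum]
        refine Finset.sum_congr rfl fun i _ => ?_
        rw [Planes.coA_apply, Planes.coB_apply, hc, TensorProduct.tmul_add, TensorProduct.tmul_smul, TensorProduct.tmul_smul]
        change (algebraMap R A (F.P.c i) * (polar (QA Q A) ((1 : A) ⊗ₜ[R] F.P.b i) _ - 2 * QA Q A ((1 : A) ⊗ₜ[R] F.P.b i) *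
            polar (QA Q A) ((1 : A) ⊗ₜ[R] F.P.a i) _)) • ((1 : A) ⊗ₜ[R] F.P.a i) +
          (algebraMap R A (F.P.c i) * (polar (QA Q A) ((1 : A) ⊗ₜ[R] F.P.a i) _ - 2 * QA Q A ((1 : A) ⊗ₜ[R] F.P.a i) *
            polar (QA Q A) ((1 : A) ⊗ₜ[R] F.P.b i) _)) • ((1 : A) ⊗ₜ[R] F.P.b i) = _
        rw [polar_QA, polar_QA, QA_one_tmul, QA_one_tmul, ← map_ofNat (algebraMap R A) 2]
        simp only [← map_mul, ← map_sub, algebraMap_smul, Planes.coA_apply, Planes.coB_apply]
      rw [show a ⊗ₜ[R] v = a • ((1 : A) ⊗ₜ[R] v) by rw [TensorProduct.smul_tmul', smul_eq_mul, mul_one], map_smul, map_smul,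
        hp, smul_assoc, ← smul_add]
      congr 1
      conv_rhs => rw [← F.span v, TensorProduct.tmul_add, TensorProduct.tmul_smul]
      simp [TensorProduct.smul_tmul']
    | add x y hx hy => rw [map_add, map_add, add_smul, add_add_add_comm, hx, hy]

end Groth.Misc12.Cliff
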