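import Groth.Agent.Misc12.Cliff.Odd.Global
import Groth.Agent.Misc12.Cliff.GPin

/-!
The coordinate rings of the Clifford and Pin groups of a semiregular form of odd rank and their formal smoothness.
-/

set_option autoImplicit false
set_option linter.unusedSectionVars false

noncomputable section

open CategoryTheory AlgebraicGeometry CliffordAlgebra
open scoped TensorProduct

universe u

namespace Groth.Misc12.Cliff

variable {R : Type u} [CommRing R] {n : ℕ} {Q : QuadraticForm R (Fin n → R)}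

/-! ### `Fmap` and the grading, the conjugation -/

section Functor

variable {A B : Type u} [CommRing A] [CommRing B] [Algebra R A] [Algebra R B] (φ : A →ₐ[R] B)

theorem Fmap_mem_evenOdd {i : ZMod 2} {X : CliffordAlgebra (QA Q A)} (hX : X ∈ evenOdd (QA Q A) i) :
    Fmap φ Q X ∈ evenOdd (QA Q B) i := by
  refine Submodule.iSup_induction _ (motive := fun X => Fmap φ Q X ∈ evenOdd (QA Q B) i) hX (fun j x hx => ?_)
    (by simp) (fun a b ha hb => by rw [map_add]; exact add_mem ha hb)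
  refine Submodule.mem_iSup_of_mem j ?_
  generalize (j : ℕ) = k at hx ⊢
  induction hx using Submodule.pow_induction_on_left' with
  | algebraMap r => rw [Fmap_algebraMap, pow_zero]; exact Submodule.algebraMap_mem _
  | add a b k _ _ ha hb => rw [map_add]; exact add_mem ha hb
  | mem_mul a ha k b _ hb =>
    obtain ⟨v, rfl⟩ := ha
    rw [map_mul, Fmap_ι, pow_succ']
    exact Submodule.mul_mem_mul ⟨_, rfl⟩ hb

theorem Fmap_decompose (X : CliffordAlgebra (QA Q A)) (i : ZMod 2) :
    Fmap φ Q (↑(DirectSum.decompose (evenOdd (QA Q A)) X i) : CliffordAlgebra (QA Q A)) =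
      ↑(DirectSum.decompose (evenOdd (QA Q B)) (Fmap φ Q X) i) := by
  conv_rhs => rw [sum_decompose X, map_add, DirectSum.decompose_add, DFinsupp.add_apply, Submodule.coe_add]
  rcases (by decide : ∀ j : ZMod 2, j = 0 ∨ j = 1) i with rfl | rfl
  · rw [DirectSum.decompose_of_mem_same _ (Fmap_mem_evenOdd φ (SetLike.coe_mem _)),
      DirectSum.decompose_of_mem_ne _ (Fmap_mem_evenOdd φ (SetLike.coe_mem _)) (by decide : (1 : ZMod 2) ≠ 0), add_zero]
  · rw [DirectSum.decompose_of_mem_ne _ (Fmap_mem_evenOdd φ (SetLike.coe_mem _)) (by decide : (0 : ZMod 2) ≠ 1),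
      DirectSum.decompose_of_mem_same _ (Fmap_mem_evenOdd φ (SetLike.coe_mem _)), zero_add]

theorem Fmap_star (X : CliffordAlgebra (QA Q A)) : Fmap φ Q (star X) = star (Fmap φ Q X) := by
  induction X using CliffordAlgebra.induction with
  | algebraMap r => rw [star_algebraMap, Fmap_algebraMap, star_algebraMap]
  | ι v => rw [star_ι, map_neg, Fmap_ι, star_ι]
  | mul x y hx hy => rw [star_mul, map_mul, map_mul, hx, hy, star_mul]
  | add x y hx hy => rw [star_add, map_add, map_add, hx, hy, star_add]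

end Functor

theorem decompose_eq_zero_of_mem {A : Type u} [CommRing A] [Algebra R A] {i j : ZMod 2}
    {X : CliffordAlgebra (QA Q A)} (hX : X ∈ evenOdd (QA Q A) i) (h : i ≠ j) :
    (↑(DirectSum.decompose (evenOdd (QA Q A)) X j) : CliffordAlgebra (QA Q A)) = 0 :=
  DirectSum.decompose_of_mem_ne _ hX h

theorem mem_of_decompose_eq_zero {A : Type u} [CommRing A] [Algebra R A] {i j : ZMod 2}
    {X : CliffordAlgebra (QA Q A)} (h : i ≠ j) (hX : (↑(DirectSum.decompose (evenOdd (QA Q A)) X j) : CliffordAlgebra (QA Q A)) = 0) :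
    X ∈ evenOdd (QA Q A) i := by
  rw [sum_decompose X]
  rcases (by decide : ∀ i j : ZMod 2, i ≠ j → (i = 0 ∧ j = 1) ∨ (i = 1 ∧ j = 0)) i j h with ⟨rfl, rfl⟩ | ⟨rfl, rfl⟩
  · rw [hX, add_zero]; exact SetLike.coe_mem _
  · rw [hX, zero_add]; exact SetLike.coe_mem _

namespace OddGPin

/-! ### Points -/

variable (Q)

/-- The group: `GPin`, or `Pin` when `pin`. -/
def grp (pin : Bool) (A : Type u) [CommRing A] [Algebra R A] : Subgroup (CliffordAlgebra (QA Q A))ˣ :=
  bif pin then QuadGrp.pin Q A else QuadGrp.gpin Q A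

/-- A point in coordinates. -/
structure Dat (pin : Bool) (A : Type u) [CommRing A] [Algebra R A] (u : CliffordAlgebra (QA Q A))
    (G : Matrix (Fin n) (Fin n) A) (e : A) : Prop where
  gok : GOK Q A u G
  idem : e * e = e
  even : e • u ∈ evenOdd (QA Q A) 0
  odd : (1 - e) • u ∈ evenOdd (QA Q A) 1
  norm : pin = true → star u * u = 1

variable {Q}

theorem Dat.map {pin : Bool} {A B : Type u} [CommRing A] [CommRing B] [Algebra R A] [Algebra R B]
    {u : CliffordAlgebra (QA Q A)} {G : Matrix (Fin n) (Fin n) A} {e : A} (h : Dat Q pin A u G e) (φ : A →ₐ[R] B) :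
    Dat Q pin B (Fmap φ Q u) (G.map φ) (φ e) where
  gok := h.gok.map φ
  idem := by rw [← map_mul, h.idem]
  even := by rw [← Fmap_smul]; exact Fmap_mem_evenOdd φ h.even
  odd := by rw [show (1 : B) - φ e = φ (1 - e) by rw [map_sub, map_one], ← Fmap_smul]; exact Fmap_mem_evenOdd φ h.odd
  norm hp := by rw [← Fmap_star, ← map_mul, h.norm hp, map_one]

theorem Dat.e_unique {pin : Bool} {A : Type u} [CommRing A] [Algebra R A] {u : (CliffordAlgebra (QA Q A))ˣ}
    {G G' : Matrix (Fin n) (Fin n) A} {e e' : A} (h : Dat Q pin A u G e) (h' : Dat Q pin A u G' e') : e = e' := by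
  have key : ∀ a a' : A, a • (u : CliffordAlgebra (QA Q A)) ∈ evenOdd (QA Q A) 0 →
      (1 - a') • (u : CliffordAlgebra (QA Q A)) ∈ evenOdd (QA Q A) 1 → a * (1 - a') = 0 := fun a a' h0 h1 => by
    have h2 := eq_zero_of_mem_mem
      (by rw [mul_comm, mul_smul]; exact Submodule.smul_mem _ _ h0 :
        (a * (1 - a')) • (u : CliffordAlgebra (QA Q A)) ∈ evenOdd (QA Q A) 0)
      (by rw [mul_smul]; exact Submodule.smul_mem _ _ h1)
    refine algebraMap_injective (QA Q A) (u.mul_left_inj.1 ?_)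
    rw [← Algebra.smul_def, h2, map_zero, zero_mul]
  linear_combination key e e' h.even h'.odd - key e' e h'.even h.odd

section Pts

variable {A : Type u} [CommRing A] [Algebra R A] {m : ℕ}

theorem semireg_stdB (hQ : QuadGrp.IsSemiregular (Pi.basisFun R (Fin n)) (LinearEquiv.refl R R) Q) :
    QuadGrp.IsSemiregular (Quad.stdB (R := R) A) (LinearEquiv.refl A A) (QA Q A) :=
  isSemiregular_QA hQ A

theorem exists_equiv_of_gok {Q : QuadraticForm R (Fin (2 * m + 1) → R)}
    (hQ : QuadGrp.IsSemiregular (Pi.basisFun R (Fin (2 * m + 1))) (LinearEquiv.refl R R) Q)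
    {u : (CliffordAlgebra (QA Q A))ˣ} {G : Matrix (Fin (2 * m + 1)) (Fin (2 * m + 1)) A} (h : GOK Q A u G) :
    ∃ g : (A ⊗[R] (Fin (2 * m + 1) → R)) ≃ₗ[A] (A ⊗[R] (Fin (2 * m + 1) → R)), g ∈ QuadGrp.O (QA Q A) ∧
      g.toLinearMap = Matrix.toLin (Quad.stdB (R := R) A) (Quad.stdB (R := R) A) G ∧ G.det = 1 := by
  set b := Quad.stdB (R := R) (n := 2 * m + 1) A
  set g := Matrix.toLin b b G
  have hiso : ∀ v, QA Q A (g v) = QA Q A v := fun v => algebraMap_injective (QA Q A) (by
    rw [← ι_sq_scalar, ← ι_sq_scalar]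
    refine u.mul_left_inj.1 ?_
    rw [mul_assoc, ← gok_conj h, ← mul_assoc, ← gok_conj h, mul_assoc, ι_sq_scalar, Algebra.commutes])
  have hsr := semireg_stdB (A := A) hQ
  have hdet : IsUnit G.det := by
    have h1 := Quad.halfDisc_comp b ⟨m, rfl⟩ (QA Q A) g
    rw [show (QA Q A).comp g = QA Q A from QuadraticMap.ext hiso, LinearMap.det_toLin] at h1
    have h2 : G.det ^ 2 = 1 := (hsr : IsUnit _).mul_right_cancel (by rw [one_mul]; exact h1.symm)
    exact IsUnit.of_mul_eq_one _ (by rw [← pow_two]; exact h2)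
  let e := Matrix.toLinearEquiv b G hdet
  refine ⟨e, hiso, rfl, ?_⟩
  have := det_eq_one_of_mem_GPin' (g := e) hiso hsr u (fun v => gok_conj h v)
  rwa [show e.toLinearMap = g from rfl, LinearMap.det_toLin] at this

theorem mem_gpin_iff {Q : QuadraticForm R (Fin (2 * m + 1) → R)}
    (hQ : QuadGrp.IsSemiregular (Pi.basisFun R (Fin (2 * m + 1))) (LinearEquiv.refl R R) Q)
    (u : (CliffordAlgebra (QA Q A))ˣ) : u ∈ QuadGrp.gpin Q A ↔ ∃ G e, Dat Q false A u G e := by
  constructor
  · intro hu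
    obtain ⟨g, -, hg⟩ := exists_isometry_of_mem_GPin' (Q := QA Q A) hu.1
    obtain ⟨e, he, h0, h1⟩ := hu.2
    refine ⟨LinearMap.toMatrix (Quad.stdB (R := R) A) (Quad.stdB (R := R) A) g.toLinearMap, e, fun i => ?_, he, h0, h1,
      fun h => absurd h (by decide)⟩
    rw [← toLin_stdB, Matrix.toLin_toMatrix, ev_eq]
    exact hg _
  · rintro ⟨G, e, h⟩
    obtain ⟨g, -, hg, -⟩ := exists_equiv_of_gok hQ h.gok
    refine ⟨mem_GPin'_of_conj (g := g) u fun v => ?_, ⟨e, h.idem, h.even, h.odd⟩⟩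
    rw [gok_conj h.gok, Units.mul_inv_cancel_right, ← hg]
    rfl

theorem mem_grp_iff {Q : QuadraticForm R (Fin (2 * m + 1) → R)}
    (hQ : QuadGrp.IsSemiregular (Pi.basisFun R (Fin (2 * m + 1))) (LinearEquiv.refl R R) Q) (pin : Bool)
    (u : (CliffordAlgebra (QA Q A))ˣ) : u ∈ grp Q pin A ↔ ∃ G e, Dat Q pin A u G e := by
  cases pin with
  | false => exact mem_gpin_iff hQ u
  | true =>
    change u ∈ QuadGrp.gpin Q A ∧ star (u : CliffordAlgebra (QA Q A)) * u = 1 ↔ _
    rw [mem_gpin_iff hQ]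
    constructor
    · rintro ⟨⟨G, e, h⟩, hN⟩
      exact ⟨G, e, h.gok, h.idem, h.even, h.odd, fun _ => hN⟩
    · rintro ⟨G, e, h⟩
      exact ⟨⟨G, e, h.gok, h.idem, h.even, h.odd, fun hf => absurd hf (by decide)⟩, h.norm rfl⟩

end Pts

/-! ### The coordinate ring -/

section Coord

variable (Q) (pin : Bool)
variable {I : Type u} [Fintype I] (c : Module.Basis I R (CliffordAlgebra Q))

abbrev PolO (R : Type u) [CommRing R] (n : ℕ) (I : Type u) : Type u :=
  MvPolynomial (I ⊕ I ⊕ (Fin n × Fin n) ⊕ Unit) R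

def gU : CliffordAlgebra (QA Q (PolO R n I)) :=
  ∑ i, (MvPolynomial.X (Sum.inl i) : PolO R n I) • bcBasis Q (PolO R n I) c i

def gW : CliffordAlgebra (QA Q (PolO R n I)) :=
  ∑ i, (MvPolynomial.X (Sum.inr (Sum.inl i)) : PolO R n I) • bcBasis Q (PolO R n I) c i

def gG : Matrix (Fin n) (Fin n) (PolO R n I) :=
  Matrix.of fun i j => MvPolynomial.X (Sum.inr (Sum.inr (Sum.inl (i, j))))

def gE : PolO R n I := MvPolynomial.X (Sum.inr (Sum.inr (Sum.inr ())))

/-- The equations. -/
def eqs : (Fin 6 ⊕ Fin n) → CliffordAlgebra (QA Q (PolO R n I)) :=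
  Sum.elim
    ![gU Q c * gW Q c - 1, gW Q c * gU Q c - 1, algebraMap (PolO R n I) _ (gE * gE - gE),
      ↑(DirectSum.decompose (evenOdd (QA Q (PolO R n I))) ((gE : PolO R n I) • gU Q c) 1),
      ↑(DirectSum.decompose (evenOdd (QA Q (PolO R n I))) ((1 - gE : PolO R n I) • gU Q c) 0),
      bif pin then star (gU Q c) * gU Q c - 1 else 0]
    (fun i => gU Q c * ev Q (PolO R n I) i - (∑ j, gG (R := R) (n := n) (I := I) j i • ev Q (PolO R n I) j) * gU Q c)

def crels : (Fin 6 ⊕ Fin n) × I → PolO R n I := fun p => (bcBasis Q (PolO R n I) c).repr (eqs Q pin c p.1) p.2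

abbrev Coord : Type u := PolO R n I ⧸ Ideal.span (Set.range (crels Q pin c))

instance : Algebra.FinitePresentation R (Coord Q pin c) :=
  Algebra.FinitePresentation.quotient (Submodule.fg_span (Set.finite_range _))

/-- The universal data. -/
def uU : CliffordAlgebra (QA Q (Coord Q pin c)) := Fmap (Ideal.Quotient.mkₐ R _) Q (gU Q c)

def uW : CliffordAlgebra (QA Q (Coord Q pin c)) := Fmap (Ideal.Quotient.mkₐ R _) Q (gW Q c)

def uG : Matrix (Fin n) (Fin n) (Coord Q pin c) :=
  (gG (R := R) (n := n) (I := I)).map (Ideal.Quotient.mkₐ R (Ideal.span (Set.range (crels Q pin c))))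

def uE : Coord Q pin c := Ideal.Quotient.mkₐ R (Ideal.span (Set.range (crels Q pin c))) gE

variable {Q} {pin}

theorem Fmap_eqs_zero_iff {A : Type u} [CommRing A] [Algebra R A] (φ : PolO R n I →ₐ[R] A) :
    (∀ r, φ (crels Q pin c r) = 0) ↔ ∀ k, Fmap φ Q (eqs Q pin c k) = 0 := by
  constructor
  · intro h k
    refine (bcBasis Q A c).ext_elem fun i => ?_
    rw [repr_Fmap, map_zero, Finsupp.zero_apply]
    exact h (k, i)
  · intro h r
    rw [crels, ← repr_Fmap, h, map_zero, Finsupp.zero_apply]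

theorem eqs_univ (k : Fin 6 ⊕ Fin n) :
    Fmap (Ideal.Quotient.mkₐ R (Ideal.span (Set.range (crels Q pin c)))) Q (eqs Q pin c k) = 0 :=
  (Fmap_eqs_zero_iff c _).1 (fun r => Ideal.Quotient.eq_zero_iff_mem.2 (Ideal.subset_span (Set.mem_range_self r))) k

/-- The universal unit. -/
def uUnit : (CliffordAlgebra (QA Q (Coord Q pin c)))ˣ where
  val := uU Q pin c
  inv := uW Q pin c
  val_inv := by
    have h := eqs_univ (pin := pin) c (Sum.inl 0)
    simp only [eqs, Sum.elim_inl, Matrix.cons_val_zero, map_sub, map_mul, map_one, sub_eq_zero] at h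
    exact h
  inv_val := by
    have h := eqs_univ (pin := pin) c (Sum.inl 1)
    simp only [eqs, Sum.elim_inl, Matrix.cons_val_one, Matrix.cons_val_zero, map_sub, map_mul, map_one, sub_eq_zero] at h
    exact h

theorem dat_univ : Dat Q pin (Coord Q pin c) (uUnit (pin := pin) c : CliffordAlgebra (QA Q (Coord Q pin c)))
    (uG Q pin c) (uE Q pin c) where
  gok i := by
    have h := eqs_univ (pin := pin) c (Sum.inr i)
    simp only [eqs, Sum.elim_inr, map_sub, map_mul, map_sum, Fmap_smul, Fmap_ev, sub_eq_zero] at h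
    exact h
  idem := by
    have h := eqs_univ (pin := pin) c (Sum.inl 2)
    simp only [eqs, Sum.elim_inl, Matrix.cons_val, Fmap_algebraMap] at h
    rw [← map_zero (algebraMap (Coord Q pin c) (CliffordAlgebra (QA Q (Coord Q pin c))))] at h
    have h' := algebraMap_injective _ h
    rwa [map_sub, map_mul, sub_eq_zero] at h'
  even := by
    have h := eqs_univ (pin := pin) c (Sum.inl 3)
    simp only [eqs, Sum.elim_inl, Matrix.cons_val, Fmap_decompose, Fmap_smul] at h
    exact mem_of_decompose_eq_zero (by decide) h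
  odd := by
    have h := eqs_univ (pin := pin) c (Sum.inl 4)
    simp only [eqs, Sum.elim_inl, Matrix.cons_val, Fmap_decompose, Fmap_smul, map_sub, map_one] at h
    exact mem_of_decompose_eq_zero (by decide) h
  norm hp := by
    have h := eqs_univ (pin := pin) c (Sum.inl 5)
    subst hp
    simp only [eqs, Sum.elim_inl, Matrix.cons_val, cond_true, map_sub, map_mul, map_one, Fmap_star, sub_eq_zero] at h
    exact h

theorem repr_gU (i : I) : (bcBasis Q (PolO R n I) c).repr (gU Q c) i = MvPolynomial.X (Sum.inl i) := by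
  rw [gU, Module.Basis.repr_sum_self]

theorem repr_gW (i : I) : (bcBasis Q (PolO R n I) c).repr (gW Q c) i = MvPolynomial.X (Sum.inr (Sum.inl i)) := by
  rw [gW, Module.Basis.repr_sum_self]

theorem coord_ext {A : Type u} [CommRing A] [Algebra R A] {φ ψ : Coord Q pin c →ₐ[R] A}
    (h : Fmap φ Q (uU Q pin c) = Fmap ψ Q (uU Q pin c)) : φ = ψ := by
  have hu : Units.map (Fmap φ Q).toRingHom.toMonoidHom (uUnit (pin := pin) c) =
      Units.map (Fmap ψ Q).toRingHom.toMonoidHom (uUnit (pin := pin) c) := Units.ext h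
  have hW : Fmap φ Q (uW Q pin c) = Fmap ψ Q (uW Q pin c) :=
    congrArg (fun x : (CliffordAlgebra (QA Q A))ˣ => (↑x⁻¹ : CliffordAlgebra (QA Q A))) hu
  have hφ := (dat_univ (pin := pin) c).map φ
  have hψ := (dat_univ (pin := pin) c).map ψ
  change Dat Q pin A ↑(Units.map (Fmap φ Q).toRingHom.toMonoidHom (uUnit (pin := pin) c)) _ _ at hφ
  change Dat Q pin A ↑(Units.map (Fmap ψ Q).toRingHom.toMonoidHom (uUnit (pin := pin) c)) _ _ at hψ
  rw [hu] at hφ
  refine Ideal.Quotient.algHom_ext R (MvPolynomial.algHom_ext ?_)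
  rintro (i | i | ⟨i, j⟩ | _)
  · have := congrArg (fun X => (bcBasis Q A c).repr X i) h
    simpa only [uU, Fmap_comp, repr_Fmap, repr_gU] using this
  · have := congrArg (fun X => (bcBasis Q A c).repr X i) hW
    simpa only [uW, Fmap_comp, repr_Fmap, repr_gW] using this
  · exact congrFun (congrFun (gok_unique hφ.gok hψ.gok) i) j
  · exact hφ.e_unique hψ

theorem exists_hom {A : Type u} [CommRing A] [Algebra R A] (u : (CliffordAlgebra (QA Q A))ˣ)
    {G : Matrix (Fin n) (Fin n) A} {e : A} (h : Dat Q pin A u G e) :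
    ∃ φ : Coord Q pin c →ₐ[R] A, Fmap φ Q (uU Q pin c) = u := by
  let φ₀ : PolO R n I →ₐ[R] A := MvPolynomial.aeval
    (Sum.elim (fun i => (bcBasis Q A c).repr (u : CliffordAlgebra (QA Q A)) i)
      (Sum.elim (fun i => (bcBasis Q A c).repr (↑u⁻¹ : CliffordAlgebra (QA Q A)) i)
        (Sum.elim (fun p => G p.1 p.2) (fun _ => e))))
  have hU : Fmap φ₀ Q (gU Q c) = u := (bcBasis Q A c).ext_elem fun i => by
    rw [repr_Fmap, repr_gU, MvPolynomial.aeval_X, Sum.elim_inl]
  have hW : Fmap φ₀ Q (gW Q c) = ↑u⁻¹ := (bcBasis Q A c).ext_elem fun i => by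
    rw [repr_Fmap, repr_gW, MvPolynomial.aeval_X, Sum.elim_inr, Sum.elim_inl]
  have hG : ∀ i j, φ₀ (gG (R := R) (n := n) (I := I) i j) = G i j := fun i j => MvPolynomial.aeval_X _ _
  have hE : φ₀ (gE (R := R) (n := n) (I := I)) = e := MvPolynomial.aeval_X _ _
  have hz : ∀ r, φ₀ (crels Q pin c r) = 0 := by
    rw [Fmap_eqs_zero_iff]
    rintro (k | i)
    · fin_cases k
      · simp [eqs, hU, hW]
      · simp [eqs, hU, hW]
      · simp [eqs, Fmap_algebraMap, hE]
        rw [← map_mul, h.idem, sub_self]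
      · simp only [eqs, Sum.elim_inl, Fin.reduceFinMk, Matrix.cons_val]
        rw [Fmap_decompose, Fmap_smul, hE, hU]
        exact decompose_eq_zero_of_mem h.even (by decide)
      · simp only [eqs, Sum.elim_inl, Fin.reduceFinMk, Matrix.cons_val]
        rw [Fmap_decompose, Fmap_smul, map_sub, map_one, hE, hU]
        exact decompose_eq_zero_of_mem h.odd (by decide)
      · cases pin with
        | false => simp [eqs]
        | true => simp [eqs, Fmap_star, hU, h.norm rfl]
    · simp only [eqs, Sum.elim_inr, map_sub, map_mul, map_sum, Fmap_smul, Fmap_ev, hU, hG, h.gok i, sub_self]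
  refine ⟨Ideal.Quotient.liftₐ _ φ₀ ?_, ?_⟩
  · intro a ha
    rw [← RingHom.mem_ker]
    refine Ideal.span_le.2 ?_ ha
    rintro _ ⟨r, rfl⟩
    exact hz r
  · rw [uU, Fmap_comp]
    exact hU

end Coord

/-! ### Lifting -/

section Lift

variable {m : ℕ} {Q : QuadraticForm R (Fin (2 * m + 1) → R)}
  (hQ : QuadGrp.IsSemiregular (Pi.basisFun R (Fin (2 * m + 1))) (LinearEquiv.refl R R) Q)
  {A : Type u} [CommRing A] [Algebra R A] {J : Ideal A}

include hQ

theorem lift_gpin (hJ : J ^ 2 = ⊥) (ub : (CliffordAlgebra (QA Q (A ⧸ J)))ˣ) (hub : ub ∈ QuadGrp.gpin Q (A ⧸ J)) :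
    ∃ u ∈ QuadGrp.gpin Q A, Fmap (Ideal.Quotient.mkₐ R J) Q (u : CliffordAlgebra (QA Q A)) = ub := by
  classical
  haveI := free Q
  haveI := finite Q
  let c := Module.Free.chooseBasis R (CliffordAlgebra Q)
  set π := Ideal.Quotient.mkₐ R J
  obtain ⟨Gb, eb, hb⟩ := (mem_gpin_iff hQ ub).1 hub
  obtain ⟨gb, hgbO, hgb, hdetb⟩ := exists_equiv_of_gok hQ hb.gok
  obtain ⟨Bb, hBb, hBmb⟩ := Quad.bcForm_lift Q (A ⧸ J)
  have hok : Quad.OK (Quad.betaM Q) true (A ⧸ J) Gb := by
    have h := (Quad.mem_O_iff_cf (Quad.stdB (R := R) (A ⧸ J)) (QA Q (A ⧸ J)) Bb hBb gb).1 hgbO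
    rw [hgb, LinearMap.toMatrix_toLin, hBmb] at h
    exact ⟨hdetb ▸ isUnit_one, h, fun _ => hdetb⟩
  obtain ⟨G, hG, hGb⟩ := Quad.lift_semiregular ⟨m, rfl⟩ (Quad.isUnit_hd_beta hQ) hJ hok
  obtain ⟨B, hB, hBm⟩ := Quad.bcForm_lift Q A
  let g := Matrix.toLinearEquiv (Quad.stdB (R := R) A) G hG.1
  have hgO : g ∈ QuadGrp.O (QA Q A) :=
    (Quad.mem_O_iff_cf (Quad.stdB (R := R) A) (QA Q A) B hB g).2 (by
      rw [show LinearMap.toMatrix (Quad.stdB (R := R) A) (Quad.stdB (R := R) A) g.toLinearMap = G from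
        LinearMap.toMatrix_toLin _ _ _, hBm]
      exact hG.2.1)
  have hgd : LinearMap.det g.toLinearMap = 1 := by
    rw [show g.toLinearMap = Matrix.toLin _ _ G from rfl, LinearMap.det_toLin, hG.2.2 rfl]
  obtain ⟨p, hp⟩ := exists_sep0_global hQ
  let α : CliffordAlgebra Q →ₐ[R] CliffordAlgebra (QA Q A) := ((cmap hgO).restrictScalars R).comp (bc Q A)
  have hαe : ∀ i, α (ι Q (Pi.single i 1)) = ∑ j, G j i • ev Q A j := fun i => by
    change cmap hgO (bc Q A (ι Q (Pi.single i 1))) = _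
    rw [bc_ι, cmap_ι, ← Quad.stdB_apply]
    exact toLin_stdB G i
  choose lift hlift using Ideal.Quotient.mk_surjective (I := J)
  let u1 := ∑ i, lift ((bcBasis Q (A ⧸ J) c).repr (ub : CliffordAlgebra (QA Q (A ⧸ J))) i) • bcBasis Q A c i
  have hu1 : Fmap π Q u1 = ub := by
    refine (bcBasis Q (A ⧸ J) c).ext_elem fun i => ?_
    rw [repr_Fmap, Module.Basis.repr_sum_self]
    exact hlift _
  set T := sand α (bc Q A) p u1 with hTdef
  have hFbc : (Fmap π Q).comp (bc Q A) = bc Q (A ⧸ J) := AlgHom.ext fun x => Fmap_bc π x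
  have hT : Fmap π Q T = ub := by
    rw [hTdef, map_sand, hu1, hFbc]
    refine hp.fix _ _ fun x => ?_
    induction x using CliffordAlgebra.induction with
    | algebraMap r => rw [AlgHom.commutes, AlgHom.commutes, Algebra.commutes]
    | ι v =>
      rw [← (Pi.basisFun R (Fin _)).sum_repr v]
      simp only [map_sum, map_smul, Finset.sum_mul, Finset.mul_sum, smul_mul_assoc, mul_smul_comm, Pi.basisFun_apply]
      refine Finset.sum_congr rfl fun i _ => congrArg _ ?_
      change Fmap π Q (α (ι Q (Pi.single i 1))) * _ = _ * bc Q (A ⧸ J) (ι Q (Pi.single i 1))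
      rw [hαe, map_sum]
      simp only [Fmap_smul, Fmap_ev]
      refine Eq.trans ?_ (hb.gok i).symm
      congr 1
      refine Finset.sum_congr rfl fun j _ => ?_
      rw [← hGb]
      rfl
    | mul x y hx hy => rw [map_mul, map_mul, mul_assoc, hy, ← mul_assoc, hx, mul_assoc]
    | add x y hx hy => rw [map_add, map_add, add_mul, mul_add, hx, hy]
  -- the intertwining property
  have hTi : ∀ x, α x * T = T * bc Q A x := by
    refine intertwine_of_even hQ α (bc Q A) (fun x hx => hp.twist α (bc Q A) hx u1) fun y hy hc => ?_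
    have h1 : α y = bc Q A y := by
      change cmap hgO (bc Q A y) = _
      rw [cmap_central hgO (semireg_stdB hQ) (bc_mem_evenOdd Q A hy) (central_bc hc A), hgd, one_smul]
    rw [h1, central_bc hc A]
  have hTi' : ∀ v, cmap hgO (ι (QA Q A) v) * T = T * ι (QA Q A) v := by
    intro v
    induction v using TensorProduct.induction_on with
    | zero => simp
    | tmul a x =>
      rw [show a ⊗ₜ[R] x = a • ((1 : A) ⊗ₜ[R] x) by rw [TensorProduct.smul_tmul', smul_eq_mul, mul_one]]
      simp only [map_smul, smul_mul_assoc, mul_smul_comm, ← bc_ι]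
      exact congrArg _ (hTi (ι Q x))
    | add x y hx hy => simp only [map_add, add_mul, mul_add, hx, hy]
  set T0 : CliffordAlgebra (QA Q A) := ↑(DirectSum.decompose (evenOdd (QA Q A)) T 0) with hT0d
  set T1 : CliffordAlgebra (QA Q A) := ↑(DirectSum.decompose (evenOdd (QA Q A)) T 1) with hT1d
  have hparts : ∀ v, cmap hgO (ι (QA Q A) v) * T0 = T0 * ι (QA Q A) v ∧ cmap hgO (ι (QA Q A) v) * T1 = T1 * ι (QA Q A) v := by
    intro v
    have h := hTi' v
    rw [sum_decompose T, mul_add] at h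
    change _ + _ = (T0 + T1) * _ at h
    rw [add_mul, cmap_ι] at h
    rw [cmap_ι]
    have hv : ∀ w, ι (QA Q A) w ∈ evenOdd (QA Q A) 1 := ι_mem_evenOdd_one _
    replace h := sub_eq_sub_iff_add_eq_add.2 (h.trans (add_comm _ _))
    have h2 := eq_zero_of_mem_mem
      (x := ι (QA Q A) (g v) * T0 - T0 * ι (QA Q A) v)
      (by
        rw [h]
        refine sub_mem ?_ ?_
        · simpa [show (1 : ZMod 2) + 1 = 0 from rfl] using SetLike.mul_mem_graded (SetLike.coe_mem _ : T1 ∈ evenOdd (QA Q A) 1) (hv v)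
        · simpa [show (1 : ZMod 2) + 1 = 0 from rfl] using SetLike.mul_mem_graded (hv (g v)) (SetLike.coe_mem _ : T1 ∈ evenOdd (QA Q A) 1))
      (sub_mem (by simpa using SetLike.mul_mem_graded (hv (g v)) (SetLike.coe_mem _ : T0 ∈ evenOdd (QA Q A) 0))
        (by simpa using SetLike.mul_mem_graded (SetLike.coe_mem _ : T0 ∈ evenOdd (QA Q A) 0) (hv v)))
    rw [h2] at h
    exact ⟨sub_eq_zero.1 h2, (sub_eq_zero.1 h.symm).symm⟩
  -- the idempotent
  obtain ⟨e', he'⟩ := Ideal.Quotient.mk_surjective (I := J) eb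
  obtain ⟨e, hedef⟩ : ∃ e, e = 3 * e' * e' - 2 * e' * e' * e' := ⟨_, rfl⟩
  have hd : e' * e' - e' ∈ J := Ideal.Quotient.eq_zero_iff_mem.1 (by rw [map_sub, map_mul, he', hb.idem, sub_self])
  have he : e * e = e := by
    rw [hedef]
    linear_combination (4 * e' * e' - 4 * e' - 3) * Quad.mul_eq_zero_of_mem hJ hd hd
  have heb : π e = eb := by
    change Ideal.Quotient.mk J e = eb
    rw [hedef, map_sub, map_mul, map_mul, map_mul, map_mul, map_mul, he', map_ofNat, map_ofNat]
    linear_combination (1 - 2 * eb) * hb.idem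
  set uv := e • T0 + (1 - e) • T1 with huv
  have hpi : Fmap π Q uv = ub := by
    rw [huv, map_add, Fmap_smul, Fmap_smul, hT0d, hT1d, Fmap_decompose, Fmap_decompose, show π (1 - e) = 1 - eb by rw [map_sub π 1 e, map_one, heb], heb, hT]
    have h0 : eb • (↑(DirectSum.decompose (evenOdd (QA Q (A ⧸ J))) (ub : CliffordAlgebra (QA Q (A ⧸ J))) 0) :
        CliffordAlgebra (QA Q (A ⧸ J))) = eb • (ub : CliffordAlgebra (QA Q (A ⧸ J))) := by
      conv_rhs => rw [← DirectSum.decompose_of_mem_same _ hb.even, DirectSum.decompose_smul]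
      rfl
    have h1 : (1 - eb) • (↑(DirectSum.decompose (evenOdd (QA Q (A ⧸ J))) (ub : CliffordAlgebra (QA Q (A ⧸ J))) 1) :
        CliffordAlgebra (QA Q (A ⧸ J))) = (1 - eb) • (ub : CliffordAlgebra (QA Q (A ⧸ J))) := by
      conv_rhs => rw [← DirectSum.decompose_of_mem_same _ hb.odd, DirectSum.decompose_smul]
      rfl
    rw [h0, h1, ← add_smul, add_sub_cancel, one_smul]
  have hu : IsUnit uv := isUnit_of_Fmap_mk c hJ (by rw [hpi]; exact ub.isUnit)
  refine ⟨hu.unit, (mem_gpin_iff hQ _).2 ⟨G, e, fun i => ?_, he, ?_, ?_, fun h => absurd h (by decide)⟩, hpi⟩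
  · have h := hparts (Quad.stdB (R := R) A i)
    rw [cmap_ι, show ι (QA Q A) (g (Quad.stdB (R := R) A i)) = ∑ j, G j i • ev Q A j from toLin_stdB G i, ← ev_eq] at h
    rw [IsUnit.unit_spec, huv, add_mul, smul_mul_assoc, smul_mul_assoc, ← h.1, ← h.2, mul_add, mul_smul_comm,
      mul_smul_comm]
  · rw [IsUnit.unit_spec, huv, smul_add, smul_smul, smul_smul, mul_sub, mul_one, he, sub_self, zero_smul, add_zero]
    exact Submodule.smul_mem _ _ (SetLike.coe_mem _)
  · rw [IsUnit.unit_spec, huv, smul_add, smul_smul, smul_smul, sub_mul, one_mul, he, sub_self, zero_smul, zero_add]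
    exact Submodule.smul_mem _ _ (SetLike.coe_mem _)

omit hQ in
theorem exists_norm_correction (hJ : J ^ 2 = ⊥)
    (hQ : QuadGrp.IsSemiregular (Pi.basisFun R (Fin (2 * m + 1))) (LinearEquiv.refl R R) Q)
    (t : A) (ht : t ∈ J) (i j : Fin (2 * m + 1)) :
    ∃ h ∈ QuadGrp.gpin Q A, Fmap (Ideal.Quotient.mkₐ R J) Q (h : CliffordAlgebra (QA Q A)) = 1 ∧
      star (h : CliffordAlgebra (QA Q A)) * h =
        algebraMap A _ (1 + t * algebraMap R A (QuadraticMap.polar Q (Pi.single i 1) (Pi.single j 1))) := by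
  set a := Quad.stdB (R := R) (n := 2 * m + 1) A i with had
  set b := Quad.stdB (R := R) (n := 2 * m + 1) A j with hbd
  have ht2 : t * t = 0 := Quad.mul_eq_zero_of_mem hJ ht ht
  set X := ι (QA Q A) a * ι (QA Q A) b
  have hswap : ∀ x y, ι (QA Q A) x * ι (QA Q A) y =
      algebraMap A _ (QuadraticMap.polar (QA Q A) x y) - ι (QA Q A) y * ι (QA Q A) x := fun x y =>
    eq_sub_of_add_eq (ι_mul_ι_add_swap x y)
  set B := QuadraticMap.polarBilin (QA Q A)
  let N : (A ⊗[R] (Fin (2 * m + 1) → R)) →ₗ[A] (A ⊗[R] (Fin (2 * m + 1) → R)) :=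
    t • ((B b).smulRight a - (B a).smulRight b)
  have hN2 : ∀ v, N (N v) = 0 := fun v => by
    simp only [N, LinearMap.smul_apply, map_smul, smul_smul, ht2, zero_smul]
  let g : (A ⊗[R] (Fin (2 * m + 1) → R)) ≃ₗ[A] (A ⊗[R] (Fin (2 * m + 1) → R)) :=
    { (LinearMap.id + N) with
      invFun := fun v => v - N v
      left_inv := fun v => by simp [map_add, hN2]
      right_inv := fun v => by simp [map_sub, hN2] }
  have hX : ∀ v, X * ι (QA Q A) v = ι (QA Q A) v * X + ι (QA Q A) (B b v • a - B a v • b) := fun v => by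
    change ι (QA Q A) a * ι (QA Q A) b * ι (QA Q A) v = _ * (ι (QA Q A) a * ι (QA Q A) b) + _
    rw [map_sub, map_smul, map_smul, mul_assoc, hswap b v, mul_sub, ← mul_assoc (ι (QA Q A) a) (ι (QA Q A) v),
      hswap a v, sub_mul, ← Algebra.commutes, ← Algebra.smul_def, ← Algebra.smul_def, mul_assoc]
    simp only [B, QuadraticMap.polarBilin_apply_apply]
    abel
  let hU : (CliffordAlgebra (QA Q A))ˣ :=
    { val := 1 + t • X
      inv := 1 - t • X
      val_inv := by simp [mul_sub, add_mul, smul_sub, smul_smul, ht2]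
      inv_val := by simp [sub_mul, mul_add, smul_sub, smul_smul, ht2] }
  have hc : ∀ v, (hU : CliffordAlgebra (QA Q A)) * ι (QA Q A) v = ι (QA Q A) (g v) * hU := fun v => by
    change (1 + t • X) * _ = ι (QA Q A) (v + N v) * (1 + t • X)
    simp only [N, LinearMap.smul_apply, LinearMap.sub_apply, LinearMap.smulRight_apply, map_add, map_smul, add_mul,
      mul_add, one_mul, mul_one, smul_mul_assoc, mul_smul_comm, smul_smul, ht2, zero_smul, add_zero, hX, smul_add]
    abel
  refine ⟨hU, ⟨mem_GPin'_of_conj (g := g) hU fun v => by rw [hc, Units.mul_inv_cancel_right], ?_⟩, ?_, ?_⟩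
  · refine ⟨1, IsIdempotentElem.one, ?_, by simp⟩
    rw [one_smul]
    exact add_mem (SetLike.one_mem_graded _) (Submodule.smul_mem _ _ (ι_mul_ι_mem_evenOdd_zero _ _ _))
  · change Fmap _ Q (1 + t • X) = 1
    rw [map_add, map_one, Fmap_smul, Ideal.Quotient.mkₐ_eq_mk, Ideal.Quotient.eq_zero_iff_mem.2 ht, zero_smul, add_zero]
  · change star (1 + t • X) * (1 + t • X) = _
    have hs : star X + X = algebraMap A _ (algebraMap R A (QuadraticMap.polar Q (Pi.single i 1) (Pi.single j 1))) := by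
      change star (ι (QA Q A) a * ι (QA Q A) b) + ι (QA Q A) a * ι (QA Q A) b = _
      rw [star_mul, star_ι, star_ι, neg_mul_neg, ι_mul_ι_add_swap, QuadraticMap.polar_comm, had, hbd, Quad.stdB_apply,
        Quad.stdB_apply, polar_QA]
    rw [star_add, star_one, CliffordAlgebra.star_smul]
    simp only [add_mul, mul_add, one_mul, mul_one, smul_mul_smul_comm, ht2, zero_smul, add_zero]
    rw [map_add, map_one, map_mul, ← Algebra.smul_def, ← hs, smul_add]
    abel

theorem lift_pin (hm : 1 ≤ m) (hJ : J ^ 2 = ⊥) (ub : (CliffordAlgebra (QA Q (A ⧸ J)))ˣ)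
    (hub : ub ∈ QuadGrp.pin Q (A ⧸ J)) :
    ∃ u ∈ QuadGrp.pin Q A, Fmap (Ideal.Quotient.mkₐ R J) Q (u : CliffordAlgebra (QA Q A)) = ub := by
  classical
  obtain ⟨u, hu, hπ⟩ := lift_gpin hQ hJ ub hub.1
  obtain ⟨G, e, hd⟩ := (mem_gpin_iff hQ u).1 hu
  -- the norm is a scalar
  set U := (u : CliffordAlgebra (QA Q A))
  have heven : star U * U ∈ evenOdd (QA Q A) 0 := by
    have hst : ∀ (i : ZMod 2) (x : CliffordAlgebra (QA Q A)), x ∈ evenOdd (QA Q A) i → star x ∈ evenOdd (QA Q A) i := by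
      intro i x hx
      rw [CliffordAlgebra.star_def, reverse_mem_evenOdd_iff, involute_mem_evenOdd_iff]
      exact hx
    have hsplit : star U * U = star (e • U) * (e • U) + star ((1 - e) • U) * ((1 - e) • U) := by
      rw [CliffordAlgebra.star_smul, CliffordAlgebra.star_smul, smul_mul_smul_comm, smul_mul_smul_comm, ← add_smul,
        show e * e + (1 - e) * (1 - e) = 1 by linear_combination 2 * hd.idem, one_smul]
    rw [hsplit]
    refine add_mem (by simpa using SetLike.mul_mem_graded (hst _ _ hd.even) hd.even) ?_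
    simpa [show (1 : ZMod 2) + 1 = 0 from rfl] using SetLike.mul_mem_graded (hst _ _ hd.odd) hd.odd
  obtain ⟨g, -, hg⟩ := exists_isometry_of_mem_GPin' (Q := QA Q A) hu.1
  have hsU : ∀ v, ι (QA Q A) v * star U = star U * ι (QA Q A) (g v) := fun v => by
    have := congrArg star (hg v)
    simp only [star_mul, CliffordAlgebra.star_ι, neg_mul, mul_neg] at this
    exact neg_inj.1 this
  have hcent : ∀ x, x * (star U * U) = star U * U * x := fun x => by
    induction x using CliffordAlgebra.induction with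
    | algebraMap r => exact Algebra.commutes r _
    | ι v => rw [← mul_assoc, hsU, mul_assoc, ← hg, mul_assoc]
    | mul x y hx hy => rw [mul_assoc, hy, ← mul_assoc, hx, mul_assoc]
    | add x y hx hy => rw [add_mul, mul_add, hx, hy]
  obtain ⟨ν, hν⟩ := center_even_global (semireg_stdB (A := A) hQ) heven fun x _ => hcent x
  have hνJ : 1 - ν ∈ J := by
    refine Ideal.Quotient.eq_zero_iff_mem.1 (algebraMap_injective (QA Q (A ⧸ J)) ?_)
    have h := congrArg (Fmap (Ideal.Quotient.mkₐ R J) Q) hν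
    rw [Fmap_algebraMap, map_mul, Fmap_star, hπ, show star (ub : CliffordAlgebra (QA Q (A ⧸ J))) * ub = 1 from hub.2,
      Ideal.Quotient.mkₐ_eq_mk] at h
    rw [map_sub, map_one, map_sub, map_one, h, sub_self, map_zero]
  -- corrections
  have key : ∀ s : Finset (Fin (2 * m + 1) × Fin (2 * m + 1)), ∀ f : Fin (2 * m + 1) × Fin (2 * m + 1) → R,
      ∃ h ∈ QuadGrp.gpin Q A, Fmap (Ideal.Quotient.mkₐ R J) Q (h : CliffordAlgebra (QA Q A)) = 1 ∧
        star (h : CliffordAlgebra (QA Q A)) * h = algebraMap A _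
          (1 + (1 - ν) * algebraMap R A (∑ p ∈ s, f p * QuadraticMap.polar Q (Pi.single p.1 1) (Pi.single p.2 1))) := by
    intro s f
    induction s using Finset.induction with
    | empty => exact ⟨1, one_mem _, by simp, by simp⟩
    | insert p s hp ih =>
      obtain ⟨h, hh, hπh, hhN⟩ := ih
      obtain ⟨k, hk, hπk, hkN⟩ := exists_norm_correction (Q := Q) hJ hQ ((1 - ν) * algebraMap R A (f p))
        (J.mul_mem_right _ hνJ) p.1 p.2
      refine ⟨h * k, mul_mem hh hk, by rw [Units.val_mul, map_mul, hπh, hπk, mul_one], ?_⟩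
      rw [Units.val_mul, star_mul, mul_assoc, ← mul_assoc (star (h : CliffordAlgebra (QA Q A))), hhN,
        ← mul_assoc, ← Algebra.commutes, mul_assoc, hkN, ← map_mul, Finset.sum_insert hp]
      refine congrArg _ ?_
      have h0 : ∀ a b : A, (1 - ν) * a * ((1 - ν) * b) = 0 := fun a b =>
        Quad.mul_eq_zero_of_mem hJ (J.mul_mem_right _ hνJ) (J.mul_mem_right _ hνJ)
      simp only [map_add, map_mul]
      linear_combination h0 (algebraMap R A (∑ p ∈ s, f p * QuadraticMap.polar Q (Pi.single p.1 1) (Pi.single p.2 1)))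
        (algebraMap R A (f p) * algebraMap R A (QuadraticMap.polar Q (Pi.single p.1 1) (Pi.single p.2 1)))
  obtain ⟨f, hf⟩ : ∃ f : Fin (2 * m + 1) × Fin (2 * m + 1) → R,
      ∑ p, f p * QuadraticMap.polar Q (Pi.single p.1 1) (Pi.single p.2 1) = 1 := by
    have h := span_polar_eq_top hm hQ
    simp only [Pi.basisFun_apply] at h
    exact (Ideal.mem_span_range_iff_exists_fun).1 (h ▸ Submodule.mem_top)
  obtain ⟨h, hh, hπh, hhN⟩ := key Finset.univ f
  refine ⟨u * h, ⟨mul_mem hu hh, ?_⟩, by rw [Units.val_mul, map_mul, hπ, hπh, mul_one]⟩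
  change star ((u * h : (CliffordAlgebra (QA Q A))ˣ) : CliffordAlgebra (QA Q A)) * _ = 1
  rw [hf, map_one, mul_one] at hhN
  rw [Units.val_mul, star_mul, mul_assoc, ← mul_assoc (star U), ← hν, ← mul_assoc, ← Algebra.commutes, mul_assoc, hhN,
    ← map_mul, show ν * (1 + (1 - ν)) = 1 by linear_combination -(Quad.mul_eq_zero_of_mem hJ hνJ hνJ), map_one]

theorem formallySmooth_coord {I : Type u} [Fintype I] (c : Module.Basis I R (CliffordAlgebra Q)) (pin : Bool)
    (hm : pin = true → 1 ≤ m) : Algebra.FormallySmooth R (Coord Q pin c) := by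
  rw [Algebra.FormallySmooth.iff_comp_surjective]
  intro A _ _ J hJ φ
  set ub := Units.map (Fmap φ Q).toRingHom.toMonoidHom (uUnit (pin := pin) c)
  have hub : ub ∈ grp Q pin (A ⧸ J) := (mem_grp_iff hQ pin ub).2 ⟨_, _, (dat_univ (pin := pin) c).map φ⟩
  obtain ⟨u, hu, hπ⟩ : ∃ u ∈ grp Q pin A, Fmap (Ideal.Quotient.mkₐ R J) Q (u : CliffordAlgebra (QA Q A)) = ub := by
    cases pin with
    | false => exact lift_gpin hQ hJ ub hub
    | true => exact lift_pin hQ (hm rfl) hJ ub hub
  obtain ⟨G, e, hd⟩ := (mem_grp_iff hQ pin u).1 hu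
  obtain ⟨ψ, hψ⟩ := exists_hom c u hd
  refine ⟨ψ, coord_ext c ?_⟩
  rw [← Fmap_comp, hψ]
  exact hπ

open MonObj in
theorem smooth_of_rep (pin : Bool) (hm : pin = true → 1 ≤ m) (G : Over (Spec (CommRingCat.of R))) [GrpObj G]
    (D : QuadGrp.CliffRep Q (fun A _ _ => grp Q pin A) G) : AlgebraicGeometry.Smooth G.hom := by
  classical
  haveI := free Q
  haveI := finite Q
  let c := Module.Free.chooseBasis R (CliffordAlgebra Q)
  set C := Coord Q pin c
  have hmem : uUnit (pin := pin) c ∈ grp Q pin C := (mem_grp_iff hQ pin _).2 ⟨_, _, dat_univ c⟩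
  let e0 : ↥(grp Q pin C) := ⟨uUnit (pin := pin) c, hmem⟩
  let u : QuadGrp.specOver R C ⟶ G := MulEquiv.symm (D.pts C) e0
  have hnat : ∀ (A : Type u) [CommRing A] [Algebra R A] (φ : C →ₐ[R] A),
      ((((D.pts A) (QuadGrp.specOverMap R φ ≫ u) : ↥(grp Q pin A)) : (CliffordAlgebra (QA Q A))ˣ) :
        CliffordAlgebra (QA Q A)) = Fmap φ Q (uU Q pin c) := by
    intro A _ _ φ
    rw [D.natural C A φ (Fmap φ Q).toRingHom (Fmap_ι φ) (Fmap_algebraMap φ) u, MulEquiv.apply_symm_apply]
    rfl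
  have hpts : ∀ (A : Type u) [CommRing A] [Algebra R A],
      Function.Bijective fun y : QuadGrp.specOver R A ⟶ QuadGrp.specOver R C => y ≫ u := by
    intro A _ _
    have hy : ∀ y : QuadGrp.specOver R A ⟶ QuadGrp.specOver R C, ∃ φ : C →ₐ[R] A, y = QuadGrp.specOverMap R φ := by
      intro y
      obtain ⟨f, hf⟩ := Spec.map_surjective y.left
      have hw := Over.w y
      change y.left ≫ Spec.map _ = Spec.map _ at hw
      have hw2 : Spec.map (CommRingCat.ofHom (algebraMap R C) ≫ f) = Spec.map (CommRingCat.ofHom (algebraMap R A)) :=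
        (Spec.map_comp _ _).trans ((congrArg (fun e => e ≫ Spec.map (CommRingCat.ofHom (algebraMap R C))) hf).trans hw)
      have hw' := CommRingCat.hom_ext_iff.1 (Spec.map_injective hw2)
      exact ⟨⟨f.hom, fun r => RingHom.congr_fun hw' r⟩, Over.OverMorphism.ext hf.symm⟩
    constructor
    · intro y y' hyy
      obtain ⟨φ, rfl⟩ := hy y
      obtain ⟨φ', rfl⟩ := hy y'
      have h1 := hnat A φ
      rw [show QuadGrp.specOverMap R φ ≫ u = QuadGrp.specOverMap R φ' ≫ u from hyy, hnat A φ'] at h1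
      rw [coord_ext c h1.symm]
    · intro g
      obtain ⟨G', e', hG'⟩ := (mem_grp_iff hQ pin _).1 (D.pts A g).2
      obtain ⟨φ, hφ⟩ := exists_hom c _ hG'
      refine ⟨QuadGrp.specOverMap R φ, (D.pts A).injective (Subtype.ext (Units.ext ?_))⟩
      exact (hnat A φ).trans hφ
  have := Quad.isIso_of_points u hpts
  have hw : u.left ≫ G.hom = Spec.map (CommRingCat.ofHom (algebraMap R C)) := Over.w u
  have hs : AlgebraicGeometry.Smooth (u.left ≫ G.hom) := by
    rw [hw]
    refine (HasRingHomProperty.Spec_iff (P := @AlgebraicGeometry.Smooth.{u}) (φ := CommRingCat.ofHom (algebraMap R C))).2 ?_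
    rw [CommRingCat.hom_ofHom, RingHom.smooth_algebraMap]
    exact ⟨formallySmooth_coord hQ c pin hm, inferInstance⟩
  exact IsIso.inv_hom_id_assoc u.left G.hom ▸ inferInstance

end Lift

end OddGPin

end Groth.Misc12.Cliff
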