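import Groth.Agent.Misc12.Cliff.Odd.Main

/-!
Semiregular forms of odd rank over an arbitrary ring: scalars in the centre of the even part, odd central elements
spanning the unit ideal, a global separability element along the even part, and polar values generating the unit ideal.
-/

set_option autoImplicit false
set_option linter.unusedSectionVars false

noncomputable section

open QuadraticMap CliffordAlgebra MulOpposite
open scoped TensorProduct

universe u v w

namespace Groth.Misc12.Cliff

variable {R : Type u} [CommRing R] {M : Type v} [AddCommGroup M] [Module R M] {Q : QuadraticForm R M}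
  [Module.Free R M] [Module.Finite R M] {m : ℕ} {b : Module.Basis (Fin (2 * m + 1)) R M}

theorem central_bc {y : CliffordAlgebra Q} (hc : ∀ x, x * y = y * x) (A : Type w) [CommRing A] [Algebra R A]
    (z : CliffordAlgebra (QA Q A)) : z * bc Q A y = bc Q A y * z :=
  commute_all_of_commute_bc A (fun x => by rw [← map_mul, hc, map_mul]) z

theorem commute_bc_of_commute_even {A : Type w} [CommRing A] [Algebra R A] {y : CliffordAlgebra (QA Q A)}
    (h : ∀ x ∈ evenOdd Q 0, bc Q A x * y = y * bc Q A x) {z : CliffordAlgebra (QA Q A)}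
    (hz : z ∈ evenOdd (QA Q A) 0) : z * y = y * z := by
  induction z, hz using CliffordAlgebra.even_induction with
  | algebraMap r => exact Algebra.commutes r _
  | add a c _ _ ha hc => rw [add_mul, mul_add, ha, hc]
  | ι_mul_ι_mul m₁ m₂ x _ hx =>
    have h2 : ι (QA Q A) m₁ * ι (QA Q A) m₂ * y = y * (ι (QA Q A) m₁ * ι (QA Q A) m₂) := by
      induction m₁ using TensorProduct.induction_on with
      | zero => simp
      | add a c ha hc => rw [map_add, add_mul, add_mul, mul_add, ha, hc]
      | tmul a u =>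
        induction m₂ using TensorProduct.induction_on with
        | zero => simp
        | add a c ha hc => rw [map_add, mul_add, add_mul, mul_add, ha, hc]
        | tmul c v =>
          rw [show a ⊗ₜ[R] u = a • ((1 : A) ⊗ₜ[R] u) by rw [TensorProduct.smul_tmul', smul_eq_mul, mul_one],
            show c ⊗ₜ[R] v = c • ((1 : A) ⊗ₜ[R] v) by rw [TensorProduct.smul_tmul', smul_eq_mul, mul_one], map_smul,
            map_smul, ← bc_ι, ← bc_ι, smul_mul_smul_comm, ← map_mul, smul_mul_assoc, mul_smul_comm,
            h _ (ι_mul_ι_mem_evenOdd_zero Q u v)]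
    rw [mul_assoc, hx, ← mul_assoc, h2, mul_assoc]

/-- Even elements commuting with the even part are scalars. -/
theorem center_even_global (hQ : QuadGrp.IsSemiregular b (LinearEquiv.refl R R) Q) {z : CliffordAlgebra Q}
    (hz : z ∈ evenOdd Q 0) (hc : ∀ x ∈ evenOdd Q 0, x * z = z * x) :
    z ∈ Set.range (algebraMap R (CliffordAlgebra Q)) := by
  classical
  let ε : CliffordAlgebra Q →ₗ[R] R :=
    (ExteriorAlgebra.algebraMapInv (R := R) (M := M)).toLinearMap ∘ₗ (toExt Q).toLinearMap
  have hε : ∀ r, ε (algebraMap R (CliffordAlgebra Q) r) = r := fun r => by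
    change ExteriorAlgebra.algebraMapInv (toExt Q (algebraMap R _ r)) = r
    rw [toExt_algebraMap]
    exact AlgHom.commutes _ r
  refine ⟨ε z, eq_of_forall_bc_eq fun P _ => ?_⟩
  obtain ⟨F⟩ := exists_frame (isSemiregular_QA hQ (Localization.AtPrime P))
  obtain ⟨a, ha⟩ := F.center_even (bc_mem_evenOdd Q (Localization.AtPrime P) hz) fun x hx =>
    commute_bc_of_commute_even (fun y hy => by rw [← map_mul, hc y hy, map_mul]) hx
  obtain ⟨r, s, hs⟩ := IsLocalization.exists_mk'_eq P.primeCompl a
  have h1 : bc Q (Localization.AtPrime P) ((s : R) • z - algebraMap R _ r) = 0 := by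
    rw [map_sub, map_smul, ← ha, AlgHom.commutes, IsScalarTower.algebraMap_apply R (Localization.AtPrime P)
      (CliffordAlgebra (QA Q (Localization.AtPrime P))) r, ← algebraMap_smul (Localization.AtPrime P) (s : R),
      Algebra.smul_def, ← map_mul, ← map_sub, ← hs, IsLocalization.mk'_spec', sub_self, map_zero]
  obtain ⟨t, ht, ht0⟩ := exists_smul_eq_zero P h1
  have h2 : t * ((s : R) * ε z - r) = 0 := by
    have := congrArg ε ht0
    rwa [map_smul, map_sub, map_smul, hε, map_zero, smul_eq_mul, smul_eq_mul] at this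
  refine smul_left_cancel_loc P (s := t * s) (fun h => (Ideal.IsPrime.mem_or_mem inferInstance h).elim ht s.2) ?_
  simp only [algebraMap_smul]
  rw [← map_smul (bc Q (Localization.AtPrime P)), ← map_smul (bc Q (Localization.AtPrime P))]
  refine congrArg _ ?_
  rw [mul_smul, mul_smul]
  rw [smul_sub, sub_eq_zero] at ht0
  rw [ht0]
  simp only [Algebra.algebraMap_eq_smul_one, smul_smul]
  refine congrArg (fun e : R => e • (1 : CliffordAlgebra Q)) ?_
  linear_combination h2

/-- Odd central elements generate the unit ideal. -/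
theorem exists_odd_central_family (hQ : QuadGrp.IsSemiregular b (LinearEquiv.refl R R) Q) :
    ∃ (s : Finset R) (y : R → CliffordAlgebra Q) (c : R → R),
      (∀ r ∈ s, y r ∈ evenOdd Q 1 ∧ ∀ x, x * y r = y r * x) ∧ ∑ r ∈ s, c r • (y r * y r) = 1 := by
  classical
  let S : Set R := {r | ∃ y ∈ evenOdd Q 1, (∀ x, x * y = y * x) ∧ y * y = algebraMap R _ r}
  have htop : Ideal.span S = ⊤ := by
    by_contra h
    obtain ⟨P, hP, hle⟩ := Ideal.exists_le_maximal _ h
    obtain ⟨F⟩ := exists_frame (isSemiregular_QA hQ (Localization.AtPrime P))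
    obtain ⟨ζ, hζ⟩ := F.exists_zeta
    obtain ⟨d, hd, hζζ⟩ := hζ.sq
    obtain ⟨y, hy, s, hs, hsy⟩ := exists_bc_eq_smul_mem P hζ.odd
    haveI := free Q
    haveI := finite Q
    let c := Module.Free.chooseBasis R (CliffordAlgebra Q)
    have hk : ∀ i, ∃ t ∉ P, t • (c i * y - y * c i) = 0 := fun i => exists_smul_eq_zero P (by
      rw [map_sub, map_mul, map_mul, hsy, mul_smul_comm, smul_mul_assoc, hζ.central, sub_self])
    choose t ht ht0 using hk
    set T := ∏ i, t i
    have hT : T ∉ P := fun h => by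
      obtain ⟨i, -, hi⟩ := (Ideal.IsPrime.prod_mem_iff).1 h
      exact ht i hi
    set y' := T • y
    have hy' : y' ∈ evenOdd Q 1 := Submodule.smul_mem _ _ hy
    have hc : ∀ x, x * y' = y' * x := fun x => by
      rw [← c.sum_repr x, Finset.sum_mul, Finset.mul_sum]
      refine Finset.sum_congr rfl fun i _ => ?_
      rw [smul_mul_assoc, mul_smul_comm]
      congr 1
      rw [mul_smul_comm, smul_mul_assoc, ← sub_eq_zero, show T = (∏ j ∈ Finset.univ.erase i, t j) * t i from
        (Finset.prod_erase_mul _ _ (Finset.mem_univ i)).symm, mul_smul, mul_smul, ← smul_sub, ← smul_sub, ← smul_sub, ht0, smul_zero, smul_zero]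
    obtain ⟨r, hr⟩ := center_even_global hQ (z := y' * y')
      (by simpa [show (1 : ZMod 2) + 1 = 0 from rfl] using SetLike.mul_mem_graded hy' hy')
      fun x _ => by rw [← mul_assoc, hc, mul_assoc, hc, ← mul_assoc]
    have h1 : algebraMap R (Localization.AtPrime P) r = algebraMap R (Localization.AtPrime P) (T * s) *
        (algebraMap R (Localization.AtPrime P) (T * s) * d) := by
      refine algebraMap_injective (QA Q (Localization.AtPrime P)) ?_
      rw [← IsScalarTower.algebraMap_apply, ← AlgHom.commutes (bc Q (Localization.AtPrime P)), hr, map_mul, map_smul, hsy,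
        ← algebraMap_smul (Localization.AtPrime P) T, smul_smul, ← map_mul, smul_mul_assoc, mul_smul_comm, hζζ, smul_smul,
        Algebra.smul_def, ← map_mul, mul_assoc]
    have hu : IsUnit (algebraMap R (Localization.AtPrime P) r) := by
      have h := isUnit_algebraMap_of_notMem P (fun h => (Ideal.IsPrime.mem_or_mem inferInstance h).elim hT hs : T * s ∉ P)
      rw [h1]
      exact h.mul (h.mul hd)
    exact (IsLocalization.AtPrime.isUnit_to_map_iff _ P r).1 hu (hle (Ideal.subset_span ⟨y', hy', hc, hr.symm⟩))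
  obtain ⟨c, hc, hc1⟩ := Submodule.mem_span_set.1 (show (1 : R) ∈ Ideal.span S by rw [htop]; trivial)
  choose! y hy1 hy2 hy3 using fun r (hr : r ∈ S) => hr
  refine ⟨c.support, y, c, fun r hr => ⟨hy1 r (hc hr), hy2 r (hc hr)⟩, ?_⟩
  rw [← map_one (algebraMap R (CliffordAlgebra Q)), ← hc1, Finsupp.sum, map_sum]
  refine Finset.sum_congr rfl fun r hr => ?_
  rw [hy3 r (hc hr), smul_eq_mul, map_mul, ← Algebra.smul_def]

/-- To intertwine it is enough to intertwine on the even part and on the odd central elements. -/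
theorem intertwine_of_even (hQ : QuadGrp.IsSemiregular b (LinearEquiv.refl R R) Q) {C' : Type*} [Ring C'] [Algebra R C']
    (α β : CliffordAlgebra Q →ₐ[R] C') {T : C'} (h0 : ∀ x ∈ evenOdd Q 0, α x * T = T * β x)
    (h1 : ∀ y ∈ evenOdd Q 1, (∀ x, x * y = y * x) → α y * T = T * β y) (x : CliffordAlgebra Q) : α x * T = T * β x := by
  classical
  obtain ⟨s, y, c, hy, hsum⟩ := exists_odd_central_family hQ
  have hodd : ∀ z ∈ evenOdd Q 1, α z * T = T * β z := fun z hz => by
    have hz' : z = ∑ r ∈ s, c r • (y r * (y r * z)) := by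
      conv_lhs => rw [← one_mul z, ← hsum, Finset.sum_mul]
      exact Finset.sum_congr rfl fun r _ => by rw [smul_mul_assoc, mul_assoc]
    rw [hz', map_sum, map_sum, Finset.sum_mul, Finset.mul_sum]
    refine Finset.sum_congr rfl fun r hr => ?_
    obtain ⟨hr1, hr2⟩ := hy r hr
    have he : y r * z ∈ evenOdd Q 0 := by
      simpa [show (1 : ZMod 2) + 1 = 0 from rfl] using SetLike.mul_mem_graded hr1 hz
    rw [map_smul, map_smul, map_mul α (y r), map_mul β (y r), smul_mul_assoc, mul_smul_comm, mul_assoc, h0 _ he,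
      ← mul_assoc, h1 _ hr1 hr2, mul_assoc]
  rw [sum_decompose x, map_add, map_add, add_mul, mul_add, h0 _ (SetLike.coe_mem _), hodd _ (SetLike.coe_mem _)]

section Sep0

variable (A : Type w) [CommRing A] [Algebra R A]

/-- `C ⊗ Cᵒᵖ → C_A ⊗ C_Aᵒᵖ`. -/
def envBC : CliffordAlgebra Q ⊗[R] (CliffordAlgebra Q)ᵐᵒᵖ →ₐ[R]
    CliffordAlgebra (QA Q A) ⊗[A] (CliffordAlgebra (QA Q A))ᵐᵒᵖ :=
  Algebra.TensorProduct.lift
    ((Algebra.TensorProduct.includeLeft (R := A) (S := R) (A := CliffordAlgebra (QA Q A))
      (B := (CliffordAlgebra (QA Q A))ᵐᵒᵖ)).comp (bc Q A))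
    (((Algebra.TensorProduct.includeRight (R := A) (A := CliffordAlgebra (QA Q A))
      (B := (CliffordAlgebra (QA Q A))ᵐᵒᵖ)).restrictScalars R).comp (AlgHom.op (bc Q A)))
    (fun x y => by
      change _ * _ = _ * _
      simp [Algebra.TensorProduct.tmul_mul_tmul])

@[simp]
theorem envBC_tmul (x : CliffordAlgebra Q) (y : (CliffordAlgebra Q)ᵐᵒᵖ) :
    envBC A (x ⊗ₜ[R] y) = bc Q A x ⊗ₜ[A] op (bc Q A y.unop) := by
  simp [envBC, Algebra.TensorProduct.tmul_mul_tmul]

theorem bc_sand_id (q : CliffordAlgebra Q ⊗[R] (CliffordAlgebra Q)ᵐᵒᵖ) (y : CliffordAlgebra Q) :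
    bc Q A (sand (AlgHom.id R _) (AlgHom.id R _) q y) =
      sand (AlgHom.id A _) (AlgHom.id A _) (envBC A q) (bc Q A y) := by
  induction q using TensorProduct.induction_on with
  | zero => simp
  | tmul a c => simp [sand_tmul]
  | add a c ha hc => simp only [map_add, LinearMap.add_apply, ha, hc]

end Sep0

/-- A separability element along the even part. -/
theorem exists_sep0_global (hQ : QuadGrp.IsSemiregular b (LinearEquiv.refl R R) Q) : ∃ p, IsSep0 Q p := by
  classical
  haveI := free Q
  haveI := finite Q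
  let c := Module.Free.chooseBasis R (CliffordAlgebra Q)
  let I := Module.Free.ChooseBasisIndex R (CliffordAlgebra Q)
  let x : I → CliffordAlgebra Q := fun i => ↑(DirectSum.decompose (evenOdd Q) (c i) 0)
  let E := CliffordAlgebra Q ⊗[R] (CliffordAlgebra Q)ᵐᵒᵖ
  let L : E →ₗ[R] (I → E) × CliffordAlgebra Q :=
    (LinearMap.pi fun i => LinearMap.mulLeft R (x i ⊗ₜ[R] (1 : (CliffordAlgebra Q)ᵐᵒᵖ) - (1 : CliffordAlgebra Q) ⊗ₜ[R] op (x i))).prod
      ((sand (AlgHom.id R (CliffordAlgebra Q)) (AlgHom.id R (CliffordAlgebra Q))).toLinearMap.flip 1)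
  let t : (I → E) × CliffordAlgebra Q := (0, 1)
  have htop : Submodule.comap (LinearMap.toSpanSingleton R _ t) (LinearMap.range L) = ⊤ := by
    by_contra h
    obtain ⟨P, hP, hle⟩ := Ideal.exists_le_maximal _ h
    let S := Localization.AtPrime P
    obtain ⟨F⟩ := exists_frame (isSemiregular_QA hQ S)
    obtain ⟨p, hp⟩ := F.exists_sep0
    let B1 := c.tensorProduct (c.map (opLinearEquiv R : CliffordAlgebra Q ≃ₗ[R] (CliffordAlgebra Q)ᵐᵒᵖ))
    let B2 := (bcBasis Q S c).tensorProduct
      ((bcBasis Q S c).map (opLinearEquiv S : CliffordAlgebra (QA Q S) ≃ₗ[S] (CliffordAlgebra (QA Q S))ᵐᵒᵖ))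
    have hB : ∀ k, envBC S (B1 k) = B2 k := fun ⟨i, j⟩ => by
      simp [B1, B2, Module.Basis.tensorProduct_apply, bcBasis_apply]
    have hker : ∀ q : CliffordAlgebra Q ⊗[R] (CliffordAlgebra Q)ᵐᵒᵖ, (envBC (Q := Q) S q = 0) → ∃ t ∉ P, t • q = 0 := by
      intro q hq
      have hk : ∀ k, ∃ u : P.primeCompl, (u : R) * B1.repr q k = 0 := fun k => by
        refine (IsLocalization.map_eq_zero_iff P.primeCompl S (B1.repr q k)).1 ?_
        have : B2.repr (envBC S q) k = algebraMap R S (B1.repr q k) := by
          conv_lhs => rw [← B1.sum_repr q, map_sum]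
          simp only [map_smul, hB, ← algebraMap_smul S (B1.repr q _), Module.Basis.repr_sum_self]
        rw [← this, hq, map_zero, Finsupp.zero_apply]
      choose u hu using hk
      refine ⟨∏ k, (u k : R), (∏ k, u k).2 |> fun h => by simpa using h, B1.ext_elem fun k => ?_⟩
      rw [map_smul, Finsupp.smul_apply, smul_eq_mul, map_zero, Finsupp.zero_apply,
        ← Finset.prod_erase_mul _ _ (Finset.mem_univ k), mul_assoc, hu, mul_zero]
    obtain ⟨q, s, hs, hq⟩ : ∃ q, ∃ s ∉ P, envBC S q = algebraMap R S s • p := by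
      obtain ⟨⟨s, hs⟩, hb⟩ := IsLocalization.exist_integer_multiples_of_finite P.primeCompl (fun k => B2.repr p k)
      choose r hr using hb
      refine ⟨∑ k, r k • B1 k, s, hs, ?_⟩
      conv_rhs => rw [← B2.sum_repr p, Finset.smul_sum]
      rw [map_sum]
      refine Finset.sum_congr rfl fun k _ => ?_
      rw [map_smul, hB, smul_smul, ← Algebra.smul_def]
      change r k • _ = (s • B2.repr p k) • _
      rw [← hr k, algebraMap_smul]
    have h1 : ∀ i, ∃ u ∉ P, u • ((x i ⊗ₜ[R] (1 : (CliffordAlgebra Q)ᵐᵒᵖ) - (1 : CliffordAlgebra Q) ⊗ₜ[R] op (x i)) * q) = 0 :=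
      fun i => hker _ (by
        rw [map_mul, map_sub, envBC_tmul, envBC_tmul, hq, mul_smul_comm, sub_mul, unop_one, map_one, unop_op, op_one,
          hp.comm _ (bc_mem_evenOdd Q S (SetLike.coe_mem _)), sub_self, smul_zero])
    choose u hu hu0 using h1
    obtain ⟨v, hv, hv0⟩ := exists_smul_eq_zero P
      (x := sand (AlgHom.id R (CliffordAlgebra Q)) (AlgHom.id R (CliffordAlgebra Q)) q 1 - s • 1) (by
        rw [map_sub, bc_sand_id, hq, map_smul, LinearMap.smul_apply, map_smul, map_one, hp.unit, algebraMap_smul, sub_self])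
    set T := v * ∏ i, u i
    have hT : T * s ∉ P := fun h => by
      rcases Ideal.IsPrime.mem_or_mem inferInstance h with h | h
      · rcases Ideal.IsPrime.mem_or_mem inferInstance h with h | h
        · exact hv h
        · obtain ⟨i, -, hi⟩ := (Ideal.IsPrime.prod_mem_iff).1 h
          exact hu i hi
      · exact hs h
    refine hT (hle ⟨T • q, Prod.ext (funext fun i => ?_) ?_⟩)
    · change (_ - _) * (T • q) = (T * s) • (0 : E)
      rw [smul_zero, mul_smul_comm, show T = (v * ∏ j ∈ Finset.univ.erase i, u j) * u i by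
        rw [mul_assoc, Finset.prod_erase_mul _ _ (Finset.mem_univ i)], mul_smul, hu0, smul_zero]
    · change sand (AlgHom.id R (CliffordAlgebra Q)) (AlgHom.id R (CliffordAlgebra Q)) (T • q) 1 = (T * s) • 1
      rw [map_smul, LinearMap.smul_apply, mul_smul T s (1 : CliffordAlgebra Q), ← sub_eq_zero, ← smul_sub, show T = (∏ i, u i) * v from mul_comm _ _,
        mul_smul, hv0, smul_zero]
  obtain ⟨p, hp⟩ : t ∈ LinearMap.range L := by
    have : (1 : R) ∈ Submodule.comap (LinearMap.toSpanSingleton R _ t) (LinearMap.range L) := htop ▸ Submodule.mem_top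
    simpa using this
  refine ⟨p, fun z hz => ?_, congrArg Prod.snd hp⟩
  have hz' : z = ∑ i, c.repr z i • x i := by
    conv_lhs => rw [← DirectSum.decompose_of_mem_same (evenOdd Q) hz, ← c.sum_repr z]
    rw [DirectSum.decompose_sum]
    simp [DFinsupp.finset_sum_apply, x]
    exact Finset.sum_congr rfl fun i _ => rfl
  rw [hz', TensorProduct.sum_tmul, Finset.sum_mul, show op (∑ i, c.repr z i • x i) = ∑ i, c.repr z i • op (x i) by
    simp [Finset.op_sum], TensorProduct.tmul_sum, Finset.sum_mul]
  refine Finset.sum_congr rfl fun i _ => ?_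
  have := congrFun (congrArg Prod.fst hp) i
  change (_ - _) * p = 0 at this
  rw [sub_mul, sub_eq_zero] at this
  rw [← TensorProduct.smul_tmul', TensorProduct.tmul_smul, smul_mul_assoc, smul_mul_assoc]
  exact congrArg (c.repr z i • ·) this

/-- In rank at least three, polar values generate the unit ideal. -/
theorem span_polar_eq_top (hm : 1 ≤ m) (hQ : QuadGrp.IsSemiregular b (LinearEquiv.refl R R) Q) :
    Ideal.span (Set.range fun p : Fin (2 * m + 1) × Fin (2 * m + 1) => polar Q (b p.1) (b p.2)) = ⊤ := by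
  classical
  by_contra h
  obtain ⟨P, hP, hle⟩ := Ideal.exists_le_maximal _ h
  obtain ⟨F⟩ := exists_frame (isSemiregular_QA hQ (Localization.AtPrime P))
  set B := Algebra.TensorProduct.basis (Localization.AtPrime P) b
  have hall : ∀ x y, polar (QA Q (Localization.AtPrime P)) x y ∈ IsLocalRing.maximalIdeal (Localization.AtPrime P) := by
    intro x y
    rw [← B.sum_repr x, ← B.sum_repr y, ← polarBilin_apply_apply]
    simp only [map_sum, map_smul, LinearMap.sum_apply, LinearMap.smul_apply, polarBilin_apply_apply, smul_eq_mul]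
    refine sum_mem fun i _ => Ideal.mul_mem_left _ _ (sum_mem fun j _ => Ideal.mul_mem_left _ _ ?_)
    simp only [B, Algebra.TensorProduct.basis_apply, polar_QA, mul_one]
    refine (IsLocalization.AtPrime.to_map_mem_maximal_iff _ P _).2 (hle (Ideal.subset_span ?_))
    first | exact ⟨(i, j), rfl⟩ | exact ⟨(j, i), rfl⟩
  refine (IsLocalRing.maximalIdeal (Localization.AtPrime P)).ne_top_iff_one.1 (Ideal.IsPrime.ne_top inferInstance) ?_
  have := F.P.ab ⟨0, hm⟩
  rw [← this]
  exact hall _ _

end Groth.Misc12.Cliff
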