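import Groth.Agent.Misc12.Cliff.Odd.Global
import Groth.Agent.Misc12.Quad.Lift
import Mathlib.RingTheory.Smooth.Flat
import Mathlib.RingTheory.Flat.FaithfullyFlat.Algebra
import Mathlib.RingTheory.AdjoinRoot
import Mathlib.FieldTheory.IsAlgClosed.AlgebraicClosure

/-!
Semiregular forms of odd rank are fppf-locally isometric to the split form.
-/

set_option autoImplicit false
set_option linter.unusedSectionVars false

noncomputable section

open Matrix QuadraticMap
open scoped TensorProduct Polynomial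

universe u v

namespace Groth.Misc12.Cliff.OddSplit

open Groth.Misc12.Quad

variable {n : ℕ}

/-! ### The split form -/

theorem splitForm_odd_apply {R : Type u} [CommRing R] (m : ℕ) (c : Fin (2 * m + 1) → R) :
    QuadGrp.splitForm R (2 * m + 1) c =
      (∑ i : Fin m, c ⟨2 * i + 1, by omega⟩ * c ⟨2 * i + 2, by omega⟩) + c 0 * c 0 := by
  rw [QuadGrp.splitForm, QuadraticMap.add_apply, QuadraticMap.sum_apply, dif_pos (by omega)]
  congr 1
  · refine Fintype.sum_equiv (finCongr (by omega)) _ _ fun i => ?_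
    simp only [QuadraticMap.linMulLin_apply, LinearMap.proj_apply]
    congr 1 <;> congr 1 <;> ext <;> simp <;> omega

theorem splitForm_map {R : Type u} [CommRing R] {S : Type v} [CommRing S] (f : R →+* S) (n : ℕ) (c : Fin n → R) :
    QuadGrp.splitForm S n (f ∘ c) = f (QuadGrp.splitForm R n c) := by
  simp only [QuadGrp.splitForm, QuadraticMap.add_apply, QuadraticMap.sum_apply, map_add, map_sum,
    QuadraticMap.linMulLin_apply, LinearMap.proj_apply, map_mul, Function.comp_apply]
  congr 1
  split_ifs with h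
  · simp
  · simp

theorem baseChange_splitForm {R : Type u} [CommRing R] (A : Type u) [CommRing A] [Algebra R A] (n : ℕ)
    (x : A ⊗[R] (Fin n → R)) :
    QuadGrp.baseChangeForm A (QuadGrp.splitForm R n) x = QuadGrp.splitForm A n ((stdB (R := R) A).equivFun x) := by
  have h : ∀ v : Fin n → R, (stdB (R := R) A).equivFun ((1 : A) ⊗ₜ[R] v) = algebraMap R A ∘ v := fun v => by
    rw [← sum_stdB A v]
    funext i
    rw [Module.Basis.equivFun_apply, Module.Basis.repr_sum_self]
    rfl
  have h1 : QuadGrp.baseChangeForm A (QuadGrp.splitForm R n) =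
      (QuadGrp.splitForm A n).comp ((stdB (R := R) A).equivFun).toLinearMap := by
    refine quadForm_ext (stdB (R := R) A) (fun i => ?_) fun i j => ?_
    · rw [QuadraticMap.comp_apply, LinearEquiv.coe_toLinearMap, stdB_apply, h, splitForm_map, bcForm_tmul, one_mul, one_mul]
    · simp only [polar, QuadraticMap.comp_apply, LinearEquiv.coe_toLinearMap, stdB_apply, ← TensorProduct.tmul_add, h,
        splitForm_map, bcForm_tmul, one_mul]
  exact DFunLike.congr_fun h1 x

/-! ### Algebraically closed fields -/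

theorem exists_split_map {k : Type u} [Field k] [IsAlgClosed k] {V : Type v} [AddCommGroup V] [Module k V]
    {Q : QuadraticForm k V} {m : ℕ} (F : Frame Q m) :
    ∃ L : (Fin (2 * m + 1) → k) →ₗ[k] V, Function.Injective L ∧ ∀ c, Q (L c) = QuadGrp.splitForm k (2 * m + 1) c := by
  classical
  have hplane : ∀ i, ∃ e e' : V, Q e = 0 ∧ Q e' = 0 ∧ polar Q e e' = 1 ∧
      e ∈ Submodule.span k {F.P.a i, F.P.b i} ∧ e' ∈ Submodule.span k {F.P.a i, F.P.b i} := by
    intro i
    set A := Q (F.P.a i)
    set B := Q (F.P.b i)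
    have hA : A ≠ 0 := (F.P.aniso i).ne_zero
    obtain ⟨x, hx⟩ := IsAlgClosed.exists_root (Polynomial.C A * Polynomial.X ^ 2 + Polynomial.X + Polynomial.C B)
      (by rw [show Polynomial.C A * Polynomial.X ^ 2 + Polynomial.X + Polynomial.C B
            = Polynomial.C A * Polynomial.X ^ 2 + Polynomial.C 1 * Polynomial.X + Polynomial.C B by simp,
          Polynomial.degree_quadratic hA]; decide)
    have hx' : A * x ^ 2 + x + B = 0 := by simpa using hx
    have hval : ∀ y : k, Q (y • F.P.a i + F.P.b i) = A * y ^ 2 + y + B := fun y => by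
      rw [QuadraticMap.map_add (⇑Q), QuadraticMap.map_smul, polar_smul_left, F.P.ab i, smul_eq_mul, smul_eq_mul]
      ring
    set y := -(1 / A) - x with hy
    have hy' : A * y ^ 2 + y + B = 0 := by
      rw [hy]; field_simp; linear_combination A * hx'
    have hpe : polar Q (x • F.P.a i + F.P.b i) (y • F.P.a i + F.P.b i) = (4 * A * B - 1) / A := by
      simp only [polar_add_left, polar_add_right, polar_smul_left, polar_smul_right, polar_self, smul_eq_mul,
        F.P.ab i, F.P.ba i, nsmul_eq_mul, Nat.cast_ofNat]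
      rw [hy]; field_simp
      linear_combination (-2 * A) * hx'
    have hne : (4 * A * B - 1) / A ≠ 0 := div_ne_zero (sub_ne_zero.2 fun h => by
      have := (F.P.disc i).ne_zero
      exact this (by rw [h, sub_self])) hA
    have hspan : ∀ z : k, z • F.P.a i + F.P.b i ∈ Submodule.span k {F.P.a i, F.P.b i} := fun z =>
      add_mem (Submodule.smul_mem _ _ (Submodule.subset_span (Set.mem_insert _ _)))
        (Submodule.subset_span (Set.mem_insert_of_mem _ rfl))
    refine ⟨x • F.P.a i + F.P.b i, ((4 * A * B - 1) / A)⁻¹ • (y • F.P.a i + F.P.b i), by rw [hval, hx'], ?_, ?_,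
      hspan x, Submodule.smul_mem _ _ (hspan y)⟩
    · rw [QuadraticMap.map_smul, hval, hy', smul_zero]
    · rw [polar_smul_right, hpe, smul_eq_mul, inv_mul_cancel₀ hne]
  choose e e' he he' hee hse hse' using hplane
  obtain ⟨s, hs⟩ := IsAlgClosed.exists_eq_mul_self (Q F.f)
  have hs0 : s ≠ 0 := fun h => F.hf.ne_zero (by rw [hs, h, mul_zero])
  set f0 := s⁻¹ • F.f
  have hf0 : Q f0 = 1 := by
    rw [QuadraticMap.map_smul, hs, smul_eq_mul]; field_simp
  have hff : ∀ i, ∀ z ∈ Submodule.span k {F.P.a i, F.P.b i}, polar Q z f0 = 0 := by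
    intro i z hz
    induction hz using Submodule.span_induction with
    | mem z hz =>
      rcases hz with rfl | rfl <;> simp only [f0, polar_smul_right, F.af, F.bf, smul_zero]
    | zero => simp
    | add a b _ _ ha hb => rw [polar_add_left, ha, hb, add_zero]
    | smul r a _ ha => rw [polar_smul_left, ha, smul_zero]
  have horth : ∀ i j, i ≠ j → ∀ z ∈ Submodule.span k {F.P.a i, F.P.b i}, ∀ w ∈ Submodule.span k {F.P.a j, F.P.b j},
      polar Q z w = 0 := by
    intro i j hij z hz w hw
    induction hz using Submodule.span_induction with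
    | mem z hz =>
      induction hw using Submodule.span_induction with
      | mem w hw =>
        rcases hz with rfl | rfl <;> rcases hw with rfl | rfl
        · exact F.P.aa i j hij
        · exact F.P.ab' i j hij
        · exact F.P.ba' i j hij
        · exact F.P.bb i j hij
      | zero => simp
      | add a b _ _ ha hb => rw [polar_add_right, ha, hb, add_zero]
      | smul r a _ ha => rw [polar_smul_right, ha, smul_zero]
    | zero => simp
    | add a b _ _ ha hb => rw [polar_add_left, ha, hb, add_zero]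
    | smul r a _ ha => rw [polar_smul_left, ha, smul_zero]
  let L : (Fin (2 * m + 1) → k) →ₗ[k] V := (LinearMap.proj (0 : Fin (2 * m + 1))).smulRight f0 +
    ∑ i : Fin m, ((LinearMap.proj (⟨2 * i + 1, by omega⟩ : Fin (2 * m + 1))).smulRight (e i) +
      (LinearMap.proj (⟨2 * i + 2, by omega⟩ : Fin (2 * m + 1))).smulRight (e' i))
  let w : (Fin (2 * m + 1) → k) → Fin m → V := fun c i =>
    c ⟨2 * i + 1, by omega⟩ • e i + c ⟨2 * i + 2, by omega⟩ • e' i
  have hL : ∀ c, L c = c 0 • f0 + ∑ i, w c i := fun c => by simp [L, w]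
  have hw : ∀ c i, w c i ∈ Submodule.span k {F.P.a i, F.P.b i} := fun c i =>
    add_mem (Submodule.smul_mem _ _ (hse i)) (Submodule.smul_mem _ _ (hse' i))
  have hQw : ∀ c i, Q (w c i) = c ⟨2 * i + 1, by omega⟩ * c ⟨2 * i + 2, by omega⟩ := fun c i => by
    rw [QuadraticMap.map_add (⇑Q), QuadraticMap.map_smul, QuadraticMap.map_smul, he, he', polar_smul_left,
      polar_smul_right, hee]
    simp
  have hpsum : ∀ (t : Finset (Fin m)) (g : Fin m → V) (z : V), (∀ i ∈ t, polar Q z (g i) = 0) →
      polar Q z (∑ i ∈ t, g i) = 0 := fun t g z h => by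
    rw [← polarBilin_apply_apply, map_sum]
    exact Finset.sum_eq_zero h
  refine ⟨L, ?_, fun c => ?_⟩
  · rw [← LinearMap.ker_eq_bot, LinearMap.ker_eq_bot']
    intro c hc
    rw [hL] at hc
    have hcoef : ∀ j : Fin m, c ⟨2 * j + 1, by omega⟩ = 0 ∧ c ⟨2 * j + 2, by omega⟩ = 0 := by
      intro j
      have key : ∀ z ∈ Submodule.span k {F.P.a j, F.P.b j}, polar Q z (w c j) = 0 := by
        intro z hz
        have h := congrArg (polar Q z) hc
        rw [polar_zero_right, polar_add_right, polar_smul_right, hff j z hz, smul_zero, zero_add,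
          ← Finset.add_sum_erase _ _ (Finset.mem_univ j), polar_add_right,
          hpsum _ _ _ (fun i hi => horth j i (Finset.ne_of_mem_erase hi).symm z hz _ (hw c i)), add_zero] at h
        exact h
      have h1 := key _ (hse' j)
      have h2 := key _ (hse j)
      simp only [w, polar_add_right, polar_smul_right, smul_eq_mul, hee, polar_comm Q (e' j) (e j), polar_self, he, he',
        smul_zero, mul_zero, mul_one, add_zero, zero_add] at h1 h2
      exact ⟨h1, h2⟩
    have h0 : c 0 = 0 := by
      have hw0 : ∀ i, w c i = 0 := fun i => by simp [w, hcoef i]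
      simp only [hw0, Finset.sum_const_zero, add_zero, smul_eq_zero] at hc
      refine hc.resolve_right fun h => ?_
      rw [h, QuadraticMap.map_zero] at hf0
      exact zero_ne_one hf0
    funext i
    rcases Nat.eq_zero_or_pos (i : ℕ) with hi | hi
    · rw [show i = 0 from Fin.ext hi, h0]; rfl
    · rcases Nat.even_or_odd' (i : ℕ) with ⟨j, hj | hj⟩
      · rw [show i = ⟨2 * (⟨j - 1, by omega⟩ : Fin m).val + 2, by simp; omega⟩ from Fin.ext (by simp; omega)]
        exact (hcoef _).2
      · rw [show i = ⟨2 * (⟨j, by omega⟩ : Fin m).val + 1, by simp; omega⟩ from Fin.ext (by simp; omega)]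
        exact (hcoef _).1
  · rw [hL, QuadraticMap.map_add (⇑Q), QuadraticMap.map_smul, hf0, polar_smul_left,
      hpsum _ _ _ (fun i _ => by rw [polar_comm]; exact hff i _ (hw c i)), splitForm_odd_apply]
    have hsum : ∀ t : Finset (Fin m), Q (∑ i ∈ t, w c i) = ∑ i ∈ t, c ⟨2 * i + 1, by omega⟩ * c ⟨2 * i + 2, by omega⟩ := by
      intro t
      induction t using Finset.induction with
      | empty => simp
      | insert i t hi ih =>
        rw [Finset.sum_insert hi, Finset.sum_insert hi, QuadraticMap.map_add (⇑Q), ih, hQw,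
          hpsum _ _ _ (fun j hj => horth i j (fun h => hi (h ▸ hj)) _ (hw c i) _ (hw c j)), add_zero]
    rw [hsum]
    simp
    ring

/-- Isometries in terms of matrices. -/
theorem comp_eq_iff_cf {A : Type u} [CommRing A] {M : Type u} [AddCommGroup M] [Module A M]
    (b : Module.Basis (Fin n) A M) (P P' : QuadraticForm A M) (B B' : LinearMap.BilinForm A M)
    (hB : B.toQuadraticMap = P) (hB' : B'.toQuadraticMap = P') (g : M →ₗ[A] M) :
    (∀ v, P (g v) = P' v) ↔ cf ((LinearMap.toMatrix b b g)ᵀ * LinearMap.BilinForm.toMatrix b B *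
      LinearMap.toMatrix b b g) = cf (LinearMap.BilinForm.toMatrix b B') := by
  rw [← LinearMap.BilinForm.toMatrix_comp b b]
  subst hB hB'
  have hcf : ∀ (C : LinearMap.BilinForm A M) (i j : Fin n), cf (LinearMap.BilinForm.toMatrix b C) (Sym2.mk i j) =
      if i = j then C.toQuadraticMap (b i) else QuadraticMap.polar C.toQuadraticMap (b i) (b j) := by
    intro C i j
    simp only [cf_mk, LinearMap.BilinForm.toMatrix_apply, LinearMap.BilinMap.toQuadraticMap_apply,
      LinearMap.BilinMap.polar_toQuadraticMap]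
  constructor
  · intro hh
    funext z
    induction z using Sym2.inductionOn with
    | hf i j =>
      rw [hcf, hcf, show (LinearMap.BilinForm.comp B g g).toQuadraticMap = B'.toQuadraticMap from QuadraticMap.ext hh]
  · intro hc
    have e : (LinearMap.BilinForm.comp B g g).toQuadraticMap = B'.toQuadraticMap := by
      refine quadForm_ext b (fun i => ?_) fun i j => ?_
      · have := congrFun hc (Sym2.mk i i)
        rwa [hcf, hcf, if_pos rfl, if_pos rfl] at this
      · rcases eq_or_ne i j with rfl | hij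
        · have := congrFun hc (Sym2.mk i i)
          rw [hcf, hcf, if_pos rfl, if_pos rfl] at this
          rw [QuadraticMap.polar_self, QuadraticMap.polar_self, this]
        · have := congrFun hc (Sym2.mk i j)
          rwa [hcf, hcf, if_neg hij, if_neg hij] at this
    exact fun v => DFunLike.congr_fun e v

/-! ### Lifting congruences -/

theorem lift_congr {A : Type u} [CommRing A] {I : Ideal A} (hn : Odd n) (hI : I ^ 2 = ⊥)
    {γ δ : Matrix (Fin n) (Fin n) A} (hγ : IsUnit (hd γ)) (heq : hd γ = hd δ) (hmem : ∀ z, cf δ z - cf γ z ∈ I) :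
    ∃ H : Matrix (Fin n) (Fin n) A, (∀ a b, H a b ∈ I) ∧ cf ((1 + H)ᵀ * γ * (1 + H)) = cf δ ∧ (1 + H).det = 1 := by
  classical
  obtain ⟨j, hj⟩ := hn
  have hodd : Odd n := ⟨j, hj⟩
  let i₀ : Fin n := ⟨0, by omega⟩
  choose Hz cz hz1 hz2 using fun z => surj_obstruction hodd hγ hj i₀ (Pi.single z 1) 0
  set d := cf δ - cf γ
  set H₂ := ∑ z, d z • Hz z
  set c := ∑ z, d z * cz z
  set P := γ + γᵀ
  set E : Matrix (Fin n) (Fin n) A := Matrix.single i₀ i₀ 1
  have hc : c ∈ I := I.sum_mem fun z _ => I.mul_mem_right _ (hmem z)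
  have hsum : cf (P * H₂) + c • (cf γ - (j : A) • cf (P * E)) = d := by
    let L : Matrix (Fin n) (Fin n) A →+ (Sym2 (Fin n) → A) :=
      AddMonoidHom.mk' (fun X => cf (P * X)) fun X Y => by rw [Matrix.mul_add, cf_add]
    rw [show cf (P * H₂) = ∑ z, d z • cf (P * Hz z) by
      change L H₂ = _
      rw [map_sum]
      exact Finset.sum_congr rfl fun z _ => by change cf (P * (d z • Hz z)) = _; rw [Matrix.mul_smul, cf_smul],
      Finset.sum_smul, ← Finset.sum_add_distrib]
    simp only [← smul_smul, ← smul_add, hz1]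
    funext w
    simp [Finset.sum_apply, Pi.single_apply]
  set H := H₂ - (c * (j : A)) • E
  have hH : ∀ a b, H a b ∈ I := fun a b => by
    change ((∑ z, d z • Hz z) - (c * (j : A)) • E) a b ∈ I
    rw [Matrix.sub_apply, Matrix.sum_apply, Matrix.smul_apply, smul_eq_mul]
    exact sub_mem (I.sum_mem fun z _ => by rw [Matrix.smul_apply, smul_eq_mul]; exact I.mul_mem_right _ (hmem z))
      (I.mul_mem_right _ (I.mul_mem_right _ hc))
  have htr : H.trace = -(c * (j : A)) := by
    rw [Matrix.trace_sub, Matrix.trace_sum, Matrix.trace_smul, Matrix.trace_single_eq_same, smul_eq_mul, mul_one]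
    simp [Matrix.trace_smul, hz2]
  have hcγ : c • cf γ = c • cf δ := by
    funext z
    have := mul_eq_zero_of_mem hI hc (hmem z)
    rw [mul_sub, sub_eq_zero] at this
    exact this.symm
  have hcf : cf ((1 + H)ᵀ * γ * (1 + H)) = (1 - c) • cf δ := by
    rw [conj_one_add hI hH, Matrix.mul_sub, cf_sub, Matrix.mul_smul, cf_smul, sub_smul, one_smul, ← hcγ]
    have e := hsum
    rw [smul_sub, smul_smul] at e
    linear_combination (norm := module) e
  have hdet : (1 + H).det = 1 - c * (j : A) := by
    rw [det_one_add_of_mem hI hH, htr, ← sub_eq_add_neg]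
  have hc0 : c = 0 := by
    have h1 : hd ((1 + H)ᵀ * γ * (1 + H)) = hd ((1 - c) • δ) := hd_eq_of_cf (hcf.trans (cf_smul _ _).symm)
    rw [hd_conj hodd, hd_smul hodd, hdet, heq] at h1
    have h2 := (heq ▸ hγ).mul_right_cancel h1
    have hc2 : c * c = 0 := mul_eq_zero_of_mem hI hc hc
    have hpow : ∀ e : ℕ, (1 - c) ^ e = 1 - (e : A) * c := by
      intro e
      induction e with
      | zero => simp
      | succ e ih => rw [pow_succ, ih]; push_cast; linear_combination (e : A) * hc2
    have hncast : (n : A) = 2 * (j : A) + 1 := by rw [hj]; push_cast; ring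
    rw [hpow, hncast] at h2
    linear_combination h2 - (j : A) ^ 2 * hc2
  exact ⟨H, hH, by rw [hcf, hc0, sub_zero, one_smul], by rw [hdet, hc0, zero_mul, sub_zero]⟩

/-! ### The trivialising ring -/

section Ring

variable {S : Type u} [CommRing S] (β β₀ : Matrix (Fin n) (Fin n) S) (d : S)

/-- The matrices `G` with `Gᵀ β G ≡ β₀` and `det G = d`. -/
def trels : Sym2 (Fin n) ⊕ Unit → MvPolynomial (Fin n × Fin n) S :=
  Sum.elim (fun z => cf ((Matrix.mvPolynomialX (Fin n) (Fin n) S)ᵀ * β.map MvPolynomial.C * Matrix.mvPolynomialX (Fin n) (Fin n) S) z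
      - cf (β₀.map MvPolynomial.C) z)
    (fun _ => (Matrix.mvPolynomialX (Fin n) (Fin n) S).det - MvPolynomial.C d)

abbrev Triv : Type u := MvPolynomial (Fin n × Fin n) S ⧸ Ideal.span (Set.range (trels β β₀ d))

instance : Algebra.FinitePresentation S (Triv β β₀ d) :=
  Algebra.FinitePresentation.quotient (Submodule.fg_span (Set.finite_range _))

/-- The matrices in question. -/
def TOK (A : Type u) [CommRing A] [Algebra S A] (G : Matrix (Fin n) (Fin n) A) : Prop :=
  cf (Gᵀ * β.map (algebraMap S A) * G) = cf (β₀.map (algebraMap S A)) ∧ G.det = algebraMap S A d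

variable {β β₀ d}

theorem trels_eval {A : Type u} [CommRing A] [Algebra S A] (φ : MvPolynomial (Fin n × Fin n) S →ₐ[S] A) :
    (∀ r, φ (trels β β₀ d r) = 0) ↔ TOK β β₀ d A ((Matrix.mvPolynomialX (Fin n) (Fin n) S).map φ) := by
  have hC : ∀ M : Matrix (Fin n) (Fin n) S, (M.map MvPolynomial.C).map φ.toRingHom = M.map (algebraMap S A) := fun M => by
    ext i j; exact φ.commutes (M i j)
  have h1 : ∀ z, φ (trels β β₀ d (Sum.inl z)) =
      cf (((Matrix.mvPolynomialX (Fin n) (Fin n) S).map φ)ᵀ * β.map (algebraMap S A) * (Matrix.mvPolynomialX (Fin n) (Fin n) S).map φ) z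
        - cf (β₀.map (algebraMap S A)) z := by
    intro z
    change φ.toRingHom _ = _
    rw [trels, Sum.elim_inl, map_sub, ← congrFun (cf_map _ _) z, ← congrFun (cf_map _ _) z, Matrix.map_mul, Matrix.map_mul,
      Matrix.transpose_map, hC, hC]
    rfl
  have h2 : φ (trels β β₀ d (Sum.inr ())) = ((Matrix.mvPolynomialX (Fin n) (Fin n) S).map φ).det - algebraMap S A d := by
    rw [trels, Sum.elim_inr, map_sub, AlgHom.map_det]
    exact congrArg _ (φ.commutes d)
  constructor
  · intro h
    exact ⟨funext fun z => sub_eq_zero.1 ((h1 z).symm.trans (h _)), sub_eq_zero.1 (h2.symm.trans (h _))⟩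
  · rintro ⟨ha, hb⟩ (z | _)
    · rw [h1, ha, sub_self]
    · rw [h2, hb, sub_self]

theorem exists_triv_hom {A : Type u} [CommRing A] [Algebra S A] {G : Matrix (Fin n) (Fin n) A} (h : TOK β β₀ d A G) :
    ∃ φ : Triv β β₀ d →ₐ[S] A,
      (Matrix.mvPolynomialX (Fin n) (Fin n) S).map (φ.comp (Ideal.Quotient.mkₐ S _)) = G := by
  let φ₀ : MvPolynomial (Fin n × Fin n) S →ₐ[S] A := MvPolynomial.aeval fun p => G p.1 p.2
  have hG : (Matrix.mvPolynomialX (Fin n) (Fin n) S).map φ₀ = G := by
    ext i j; exact MvPolynomial.aeval_X _ _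
  refine ⟨Ideal.Quotient.liftₐ _ φ₀ fun a ha => ?_, hG⟩
  rw [← RingHom.mem_ker]
  refine Ideal.span_le.2 ?_ ha
  rintro _ ⟨r, rfl⟩
  exact (trels_eval φ₀).2 (hG.symm ▸ h) r

theorem tok_univ {A : Type u} [CommRing A] [Algebra S A] (φ : Triv β β₀ d →ₐ[S] A) :
    TOK β β₀ d A ((Matrix.mvPolynomialX (Fin n) (Fin n) S).map (φ.comp (Ideal.Quotient.mkₐ S _))) :=
  (trels_eval _).1 fun r => by
    rw [AlgHom.comp_apply, Ideal.Quotient.mkₐ_eq_mk, Ideal.Quotient.eq_zero_iff_mem.2 (Ideal.subset_span (Set.mem_range_self r)), map_zero]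

theorem formallySmooth_triv (hn : Odd n) (hd0 : d * d * hd β = hd β₀) (hβ₀ : IsUnit (hd β₀)) :
    Algebra.FormallySmooth S (Triv β β₀ d) := by
  rw [Algebra.FormallySmooth.iff_comp_surjective]
  intro A _ _ J hJ φ
  obtain ⟨hGb, hGbd⟩ := tok_univ φ
  set Gb := (Matrix.mvPolynomialX (Fin n) (Fin n) S).map (φ.comp (Ideal.Quotient.mkₐ S (Ideal.span (Set.range (trels β β₀ d))))) with hGbdef
  choose lift hlift using Ideal.Quotient.mk_surjective (I := J)
  have hdu : IsUnit (algebraMap S A d) :=
    (isUnit_of_mul_isUnit_left (isUnit_of_mul_isUnit_left (hd0 ▸ hβ₀))).map _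
  obtain ⟨j, hj⟩ := id hn
  let i₀ : Fin n := ⟨0, by omega⟩
  set G₁ := Gb.map lift
  have hG₁ : G₁.map (Ideal.Quotient.mk J) = Gb := by ext a b; exact hlift _
  have hq : Ideal.Quotient.mk J G₁.det = Ideal.Quotient.mk J (algebraMap S A d) := by
    rw [RingHom.map_det, RingHom.mapMatrix_apply, hG₁, hGbd]
    rfl
  have hu : IsUnit G₁.det := isUnit_of_mk hJ (hq ▸ hdu.map _)
  set D : Matrix (Fin n) (Fin n) A := Matrix.diagonal (Function.update 1 i₀ (algebraMap S A d * ↑hu.unit⁻¹))
  set G := G₁ * D
  have hinv : Ideal.Quotient.mk J (algebraMap S A d * ↑hu.unit⁻¹) = 1 := by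
    rw [map_mul, ← hq, ← map_mul, IsUnit.mul_val_inv, map_one]
  have hG : G.map (Ideal.Quotient.mk J) = Gb := by
    rw [Matrix.map_mul, hG₁, Matrix.diagonal_map (map_zero _)]
    convert Matrix.mul_one Gb
    rw [← Matrix.diagonal_one]
    congr 1
    funext a
    rcases eq_or_ne a i₀ with rfl | ha
    · rw [Function.update_self, hinv]
    · rw [Function.update_of_ne ha, Pi.one_apply, map_one]
  have hGdet : G.det = algebraMap S A d := by
    rw [Matrix.det_mul, Matrix.det_diagonal, Finset.prod_update_of_mem (Finset.mem_univ _)]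
    simp only [Pi.one_apply, Finset.prod_const_one, mul_one]
    rw [mul_comm, mul_assoc, IsUnit.val_inv_mul, mul_one]
  set γ := Gᵀ * β.map (algebraMap S A) * G
  set δ := β₀.map (algebraMap S A)
  have heq : hd γ = hd δ := by
    rw [hd_conj hn, hGdet, hd_map, hd_map, ← map_pow, ← map_mul, pow_two, hd0]
  have hγ : IsUnit (hd γ) := by rw [heq, hd_map]; exact hβ₀.map _
  have hmem : ∀ z, cf δ z - cf γ z ∈ J := fun z => by
    rw [← Ideal.Quotient.eq_zero_iff_mem, map_sub, sub_eq_zero, ← congrFun (cf_map _ _) z, ← congrFun (cf_map _ _) z,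
      Matrix.map_mul, Matrix.map_mul, Matrix.transpose_map, hG]
    have e : ∀ M : Matrix (Fin n) (Fin n) S,
        (M.map (algebraMap S A)).map (Ideal.Quotient.mk J) = M.map (algebraMap S (A ⧸ J)) :=
      fun M => map_algebraMap M (Ideal.Quotient.mkₐ S J)
    rw [e, e, hGb]
  obtain ⟨H, hH, hcf, hdet⟩ := lift_congr hn hJ hγ heq hmem
  have htok : TOK β β₀ d A (G * (1 + H)) := by
    refine ⟨?_, by rw [Matrix.det_mul, hdet, mul_one, hGdet]⟩
    rw [← hcf]
    simp [γ, Matrix.transpose_mul, Matrix.mul_assoc]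
  obtain ⟨ψ, hψ⟩ := exists_triv_hom htok
  refine ⟨ψ, Ideal.Quotient.algHom_ext S (MvPolynomial.algHom_ext fun p => ?_)⟩
  have h := congrFun (congrFun ((map_mul_one_add hH G).trans hG) p.1) p.2
  rw [← hψ, hGbdef] at h
  exact h

end Ring

/-! ### The local isometry -/

theorem exists_fppf_split {R : Type u} [CommRing R] {m : ℕ} {Q : QuadraticForm R (Fin (2 * m + 1) → R)}
    (hQ : QuadGrp.IsSemiregular (Pi.basisFun R (Fin (2 * m + 1))) (LinearEquiv.refl R R) Q) :
    ∃ (A : Type u) (_ : CommRing A) (_ : Algebra R A), Module.FaithfullyFlat R A ∧ Algebra.FinitePresentation R A ∧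
      Nonempty ((QuadGrp.baseChangeForm A Q).IsometryEquiv
        (QuadGrp.baseChangeForm A (QuadGrp.splitForm R (2 * m + 1)))) := by
  classical
  set β := betaM Q
  set β₀ := betaM (QuadGrp.splitForm R (2 * m + 1))
  have hβ : IsUnit (hd β) := isUnit_hd_beta hQ
  have hn : Odd (2 * m + 1) := ⟨m, rfl⟩
  -- a point over every algebraically closed field
  have hpoint : ∀ (k : Type u) [Field k] [IsAlgClosed k] [Algebra R k], ∃ G : Matrix (Fin (2 * m + 1)) (Fin (2 * m + 1)) k,
      cf (Gᵀ * β.map (algebraMap R k) * G) = cf (β₀.map (algebraMap R k)) ∧ G.det ≠ 0 := by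
    intro k _ _ _
    obtain ⟨F⟩ := exists_frame (isSemiregular_QA hQ k)
    obtain ⟨L, hLi, hL⟩ := exists_split_map F
    let g : (k ⊗[R] (Fin (2 * m + 1) → R)) →ₗ[k] (k ⊗[R] (Fin (2 * m + 1) → R)) :=
      L ∘ₗ (stdB (R := R) k).equivFun.toLinearMap
    obtain ⟨B, hB, hBm⟩ := bcForm_lift Q k
    obtain ⟨B', hB', hBm'⟩ := bcForm_lift (QuadGrp.splitForm R (2 * m + 1)) k
    refine ⟨LinearMap.toMatrix (stdB (R := R) k) (stdB (R := R) k) g, ?_, ?_⟩
    · rw [← hBm, ← hBm']
      refine (comp_eq_iff_cf _ _ _ B B' hB hB' g).1 fun v => ?_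
      rw [baseChange_splitForm, ← hL]
      rfl
    · rw [LinearMap.det_toMatrix]
      exact (LinearMap.isUnit_det g ((Module.End.isUnit_iff g).2
        ⟨hLi.comp (stdB (R := R) k).equivFun.injective,
          LinearMap.injective_iff_surjective.1 (hLi.comp (stdB (R := R) k).equivFun.injective)⟩)).ne_zero
  have hβ₀ : IsUnit (hd β₀) := by
    by_contra h
    obtain ⟨P, hP, hle⟩ := Ideal.exists_le_maximal (Ideal.span {hd β₀}) (by rwa [Ne, Ideal.span_singleton_eq_top])
    let k := AlgebraicClosure P.ResidueField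
    obtain ⟨G, hG, hGd⟩ := hpoint k
    have hz : algebraMap R k (hd β₀) = 0 := by
      rw [IsScalarTower.algebraMap_apply R P.ResidueField k,
        Ideal.algebraMap_residueField_eq_zero.2 (hle (Ideal.mem_span_singleton_self _)), map_zero]
    rw [← hd_map, ← hd_eq_of_cf hG, hd_conj hn, hd_map] at hz
    exact mul_ne_zero (pow_ne_zero 2 hGd) ((hβ.map (algebraMap R k)).ne_zero) hz
  set r : R := hd β₀ * ↑hβ.unit⁻¹
  have hr : r * hd β = hd β₀ := by rw [mul_assoc, IsUnit.val_inv_mul, mul_one]
  let S := AdjoinRoot (Polynomial.X ^ 2 - Polynomial.C r)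
  have hmonic : (Polynomial.X ^ 2 - Polynomial.C r : R[X]).Monic := Polynomial.monic_X_pow_sub_C r two_ne_zero
  haveI : Module.Free R S := Module.Free.of_basis (AdjoinRoot.powerBasis' hmonic).basis
  haveI : Algebra.FinitePresentation R S := AdjoinRoot.finitePresentation _
  set d : S := AdjoinRoot.root _
  have hd2 : d * d = algebraMap R S r := by
    have h := AdjoinRoot.eval₂_root (Polynomial.X ^ 2 - Polynomial.C r)
    rw [Polynomial.eval₂_sub, Polynomial.eval₂_pow, Polynomial.eval₂_X, Polynomial.eval₂_C, sub_eq_zero] at h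
    exact (pow_two _).symm.trans h
  have hd0 : d * d * hd (β.map (algebraMap R S)) = hd (β₀.map (algebraMap R S)) := by
    rw [hd2, hd_map, hd_map, ← map_mul, hr]
  let A := Triv (β.map (algebraMap R S)) (β₀.map (algebraMap R S)) d
  haveI : Algebra.FormallySmooth S A := formallySmooth_triv hn hd0 (by rw [hd_map]; exact hβ₀.map _)
  haveI : Algebra.Smooth S A := ⟨inferInstance, inferInstance⟩
  haveI : Module.Flat R A := Module.Flat.trans R S A
  haveI : Algebra.FinitePresentation R A := Algebra.FinitePresentation.trans R S A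
  have hmm : ∀ (B : Type u) [CommRing B] [Algebra R B] [Algebra S B] [IsScalarTower R S B]
      (M : Matrix (Fin (2 * m + 1)) (Fin (2 * m + 1)) R),
      (M.map (algebraMap R S)).map (algebraMap S B) = M.map (algebraMap R B) := fun B _ _ _ _ M => by
    ext i j; exact (IsScalarTower.algebraMap_apply R S B _).symm
  refine ⟨A, inferInstance, inferInstance, ?_, inferInstance, ?_⟩
  · refine Module.FaithfullyFlat.of_comap_surjective fun p => ?_
    let k := AlgebraicClosure p.asIdeal.ResidueField
    obtain ⟨G, hG, hGd⟩ := hpoint k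
    have hdd : G.det * G.det = algebraMap R k r := by
      have h := congrArg (algebraMap R k) hr
      rw [map_mul, ← hd_map, ← hd_map, ← hd_eq_of_cf hG, hd_conj hn, hd_map, pow_two] at h
      exact ((hβ.map _).mul_right_cancel h).symm
    let f : S →ₐ[R] k := AdjoinRoot.liftAlgHom _ (Algebra.ofId R k) G.det (by
      change Polynomial.eval₂ (algebraMap R k) _ _ = 0
      rw [Polynomial.eval₂_sub, Polynomial.eval₂_pow, Polynomial.eval₂_X, Polynomial.eval₂_C, pow_two, hdd, sub_self])
    letI : Algebra S k := f.toRingHom.toAlgebra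
    haveI : IsScalarTower R S k := IsScalarTower.of_algebraMap_eq fun x => (f.commutes x).symm
    obtain ⟨φ, -⟩ := exists_triv_hom (β := β.map (algebraMap R S)) (β₀ := β₀.map (algebraMap R S)) (d := d) (A := k)
      (G := G) ⟨by rw [hmm, hmm, hG], (AdjoinRoot.liftAlgHom_root _ _ _ _).symm⟩
    refine ⟨⟨RingHom.ker φ.toRingHom, RingHom.ker_isPrime _⟩, PrimeSpectrum.ext ?_⟩
    change (RingHom.ker φ.toRingHom).comap (algebraMap R A) = p.asIdeal
    rw [RingHom.comap_ker, show φ.toRingHom.comp (algebraMap R A) = algebraMap R k by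
      ext x
      change φ (algebraMap R A x) = _
      rw [IsScalarTower.algebraMap_apply R S A, AlgHom.commutes, ← IsScalarTower.algebraMap_apply],
      IsScalarTower.algebraMap_eq R p.asIdeal.ResidueField k, ← RingHom.comap_ker]
    rw [(RingHom.injective_iff_ker_eq_bot (algebraMap p.asIdeal.ResidueField k)).1 (RingHom.injective _),
      ← RingHom.ker_eq_comap_bot, Ideal.ker_algebraMap_residueField]
  · obtain ⟨hcf, hdet⟩ := tok_univ (β := β.map (algebraMap R S)) (β₀ := β₀.map (algebraMap R S)) (d := d) (AlgHom.id S A)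
    set G := (Matrix.mvPolynomialX (Fin (2 * m + 1)) (Fin (2 * m + 1)) S).map
      ((AlgHom.id S A).comp (Ideal.Quotient.mkₐ S (Ideal.span (Set.range (trels (β.map (algebraMap R S)) (β₀.map (algebraMap R S)) d)))))
    rw [hmm, hmm] at hcf
    have hdu : IsUnit G.det := by
      rw [hdet]
      refine (isUnit_of_mul_isUnit_left (y := d) ?_).map _
      rw [hd2]
      exact (isUnit_of_mul_isUnit_left (hr ▸ hβ₀)).map _
    obtain ⟨B, hB, hBm⟩ := bcForm_lift Q A
    obtain ⟨B', hB', hBm'⟩ := bcForm_lift (QuadGrp.splitForm R (2 * m + 1)) A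
    let e := Matrix.toLinearEquiv (stdB (R := R) A) G hdu
    have he : ∀ v, QuadGrp.baseChangeForm A Q (e v) = QuadGrp.baseChangeForm A (QuadGrp.splitForm R (2 * m + 1)) v := by
      refine (comp_eq_iff_cf (stdB (R := R) A) _ _ B B' hB hB' e.toLinearMap).2 ?_
      rw [show LinearMap.toMatrix (stdB (R := R) A) (stdB (R := R) A) e.toLinearMap = G from LinearMap.toMatrix_toLin _ _ _,
        hBm, hBm']
      exact hcf
    have hes : ∀ v, QuadGrp.baseChangeForm A (QuadGrp.splitForm R (2 * m + 1)) (e.symm v) = QuadGrp.baseChangeForm A Q v :=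
      fun v => by rw [← he, LinearEquiv.apply_symm_apply]
    exact ⟨{ e.symm with map_app' := hes }⟩

end Groth.Misc12.Cliff.OddSplit
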